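import Cfsg.Agent.H270.Tits.Elat
import Cfsg.Agent.H115.Tits.StmtsB
import Cfsg.Agent.H410.ASLie
import Cfsg.Agent.S0243
import Cfsg.Agent.S0249

/-!
# S3414, case (B): `StPslSemi` (helper270)
-/

set_option autoImplicit false

namespace Cfsg.Agent.H270.Tits

open Subgroup Cfsg.Agent.H873.Tits Cfsg.Agent.H384.TwoTrans Elat
open scoped LinearAlgebra.Projectivization

universe u v

/-! ## subnormal subgroups -/

/-- `t ↦ x t x⁻¹ t⁻¹` -/
def ad {Γ : Type u} [Group Γ] (x t : Γ) : Γ := x * t * x⁻¹ * t⁻¹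

theorem subnormal_ad {A : Type u} [Group A] {H : Subgroup A} (h : H.IsSubnormal) :
    ∀ x ∈ H, ∃ k : ℕ, ∀ t : A, (ad x)^[k] t ∈ H := by
  induction h with
  | top => exact fun x _ => ⟨0, fun t => trivial⟩
  | step H K hle _ hN ih =>
    intro x hx
    obtain ⟨k, hk⟩ := ih x (hle hx)
    refine ⟨k + 1, fun t => ?_⟩
    rw [Function.iterate_succ_apply']
    set u := (ad x)^[k] t with hu
    have huK : u ∈ K := hk t
    have h1 := hN.conj_mem ⟨x⁻¹, hle (inv_mem hx)⟩ (inv_mem hx) ⟨u, huK⟩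
    have h2 : u * x⁻¹ * u⁻¹ ∈ H := h1
    have h3 : ad x u = x * (u * x⁻¹ * u⁻¹) := by unfold ad; group
    rw [h3]
    exact mul_mem hx h2

theorem subnormal_ad' {Γ : Type u} [Group Γ] {A M : Subgroup Γ} (hMA : M ≤ A) (h : (M.subgroupOf A).IsSubnormal) {x : Γ}
    (hx : x ∈ M) : ∃ k : ℕ, ∀ t ∈ A, (ad x)^[k] t ∈ M := by
  obtain ⟨k, hk⟩ := subnormal_ad h ⟨x, hMA hx⟩ hx
  refine ⟨k, fun t ht => ?_⟩
  have h1 := hk ⟨t, ht⟩
  have h2 : ∀ j : ℕ, (((ad (⟨x, hMA hx⟩ : A))^[j] ⟨t, ht⟩ : A) : Γ) = (ad x)^[j] t := by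
    intro j
    induction j with
    | zero => rfl
    | succ j ih =>
      rw [Function.iterate_succ_apply', Function.iterate_succ_apply', ← ih]
      rfl
  rw [mem_subgroupOf, h2] at h1
  exact h1

/-- coprime action on an abelian group -/
theorem ad_eq_one {Γ : Type u} [Group Γ] (E : Subgroup Γ) {p n : ℕ}
    (hexp : ∀ a ∈ E, a ^ p = 1) {x : Γ} (hx : ∀ a ∈ E, x * a * x⁻¹ ∈ E) (hxn : x ^ n = 1) (hnp : Nat.Coprime n p) {k : ℕ}
    (hk : ∀ t ∈ E, (ad x)^[k] t = 1) : ∀ t ∈ E, x * t = t * x := by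
  have hadE : ∀ t ∈ E, ad x t ∈ E := fun t ht => mul_mem (hx t ht) (inv_mem ht)
  have hadE' : ∀ j : ℕ, ∀ t ∈ E, (ad x)^[j] t ∈ E := by
    intro j
    induction j with
    | zero => exact fun t ht => ht
    | succ j ih =>
      intro t ht
      rw [Function.iterate_succ_apply']
      exact hadE _ (ih t ht)
  have hone : ∀ t : Γ, ad x t = 1 → x * t = t * x := by
    intro t ht
    have h1 : x * t * x⁻¹ = t := by
      have : x * t * x⁻¹ * t⁻¹ = 1 := ht
      rwa [mul_inv_eq_one] at this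
    rw [mul_inv_eq_iff_eq_mul] at h1
    exact h1
  -- the step
  have step : ∀ u ∈ E, ad x (ad x u) = 1 → ad x u = 1 := by
    intro u hu h
    set z := ad x u with hz
    have hzE : z ∈ E := hadE u hu
    have hxz := hone z h
    have h1 : ∀ j : ℕ, x ^ j * u = z ^ j * u * x ^ j := by
      intro j
      induction j with
      | zero => simp
      | succ j ih =>
        have h2 : x * u = z * u * x := by
          have h3 : z = x * u * x⁻¹ * u⁻¹ := rfl
          rw [h3]; group
        have h3 : x * z ^ j = z ^ j * x := (show Commute x z from hxz).pow_right j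
        calc x ^ (j + 1) * u = x * (x ^ j * u) := by rw [pow_succ', mul_assoc]
          _ = x * (z ^ j * u * x ^ j) := by rw [ih]
          _ = z ^ j * (x * u) * x ^ j := by rw [← mul_assoc, ← mul_assoc, h3, mul_assoc (z ^ j)]
          _ = z ^ j * (z * u * x) * x ^ j := by rw [h2]
          _ = z ^ (j + 1) * u * x ^ (j + 1) := by rw [pow_succ z j, pow_succ' x j]; simp only [mul_assoc]
    have h2 := h1 n
    rw [hxn, one_mul, mul_one] at h2
    have h3 : z ^ n = 1 := by
      have : z ^ n * u = 1 * u := by rw [one_mul]; exact h2.symm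
      exact mul_right_cancel this
    have h4 := hexp z hzE
    have h5 : orderOf z ∣ 1 := by
      rw [← hnp]
      exact Nat.dvd_gcd (orderOf_dvd_of_pow_eq_one h3) (orderOf_dvd_of_pow_eq_one h4)
    exact orderOf_eq_one_iff.1 (Nat.dvd_one.1 h5)
  have main : ∀ k : ℕ, (∀ t ∈ E, (ad x)^[k] t = 1) → ∀ t ∈ E, ad x t = 1 := by
    intro k
    induction k with
    | zero =>
      intro h t ht
      have h1 : t = 1 := h t ht
      rw [h1]
      unfold ad
      simp
    | succ k ih =>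
      intro h
      by_cases hk0 : k = 0
      · subst hk0
        exact h
      · refine ih fun t ht => ?_
        obtain ⟨j, rfl⟩ : ∃ j, k = j + 1 := ⟨k - 1, by omega⟩
        rw [Function.iterate_succ_apply']
        apply step _ (hadE' j t ht)
        have h1 := h t ht
        rw [Function.iterate_succ_apply', Function.iterate_succ_apply'] at h1
        exact h1
  exact fun t ht => hone t (main k hk t ht)

/-! ## from `PSLType` to the projective action -/

theorem twoTr_iff' {Ω : Type v} {L : Subgroup (Equiv.Perm Ω)} (h : TwoTr L) : MulAction.IsMultiplyPretransitive L Ω 2 := by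
  rw [MulAction.is_two_pretransitive_iff]
  intro a b c d hab hcd
  obtain ⟨g, hg, h1, h2⟩ := h a b c d hab hcd
  exact ⟨⟨g, hg⟩, h1, h2⟩

theorem psl_noncomm {F : Type} [Field F] [Fintype F] {p f d : ℕ} (hd : 3 ≤ d) (hp : p.Prime) (hf : 1 ≤ f)
    (hF : Fintype.card F = p ^ f) (hcomm : ∀ a b : Matrix.ProjectiveSpecialLinearGroup (Fin d) F, a * b = b * a) :
    False := by
  have hs : IsSimpleGroup (Matrix.ProjectiveSpecialLinearGroup (Fin d) F) := S0249.result d hd
  let _ : CommGroup (Matrix.ProjectiveSpecialLinearGroup (Fin d) F) := { (inferInstance : Group _) with mul_comm := hcomm }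
  have hp1 := IsSimpleGroup.prime_card (α := Matrix.ProjectiveSpecialLinearGroup (Fin d) F)
  have hp2 : (Nat.card (Matrix.ProjectiveSpecialLinearGroup (Fin d) F)).Prime := hp1
  have hc := S0243.result hF d (by omega)
  have hpq : ¬ p ∣ p ^ f - 1 := by
    intro h
    have h1 : p ∣ p ^ f := dvd_pow_self p (by omega)
    have h2 : p ∣ p ^ f - (p ^ f - 1) := Nat.dvd_sub h1 h
    have h3 : p ^ f - (p ^ f - 1) = 1 := by
      have : 0 < p ^ f := Nat.pow_pos hp.pos
      omega
    rw [h3] at h2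
    exact hp.one_lt.ne' (Nat.dvd_one.1 h2)
  have h1 : p ^ 2 ∣ ∏ i : Fin d, ((p ^ f) ^ d - (p ^ f) ^ (i : ℕ)) := by
    refine dvd_trans ?_ (Finset.dvd_prod_of_mem _ (Finset.mem_univ (⟨2, by omega⟩ : Fin d)))
    have h2 : (p ^ f) ^ 2 ∣ (p ^ f) ^ d - (p ^ f) ^ 2 := Nat.dvd_sub (pow_dvd_pow _ (by omega)) dvd_rfl
    refine dvd_trans ?_ h2
    rw [← pow_mul]
    exact pow_dvd_pow p (by omega)
  rw [← hc] at h1
  have hcop : Nat.Coprime (p ^ 2) (p ^ f - 1) := Nat.Coprime.pow_left _ ((hp.coprime_iff_not_dvd).2 hpq)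
  have hcop' : Nat.Coprime (p ^ 2) (Nat.gcd d (p ^ f - 1)) := hcop.coprime_dvd_right (Nat.gcd_dvd_right _ _)
  have h2 := hcop.dvd_of_dvd_mul_left (hcop'.dvd_of_dvd_mul_left h1)
  have h3 : p ∣ Nat.card (Matrix.ProjectiveSpecialLinearGroup (Fin d) F) := (dvd_pow_self p two_ne_zero).trans h2
  have h4 := (Nat.prime_dvd_prime_iff_eq hp hp2).1 h3
  rw [← h4] at h2
  have h5 := Nat.le_of_dvd hp.pos h2
  have := hp.two_le
  nlinarith

theorem as_of {Ω : Type v} [Finite Ω] {L : Subgroup (Equiv.Perm Ω)} {p d f : ℕ} (h2 : TwoTr L) (h : PSLType L p d f) :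
    ∃ (T : Subgroup L) (F : Type) (_ : Field F) (_ : Fintype F), AS L Ω T ∧ Fintype.card F = p ^ f ∧
      Nonempty (T ≃* Matrix.ProjectiveSpecialLinearGroup (Fin d) F) := by
  obtain ⟨hd, hf, hp, hc, X, hXL, hXn, hmin, F, _, _, hF, ⟨e⟩⟩ := h
  have hN := hXn
  have e' : ↥(X.subgroupOf L) ≃* Matrix.ProjectiveSpecialLinearGroup (Fin d) F := (subgroupOfEquivOfLe hXL).trans e
  have hs : IsSimpleGroup (Matrix.ProjectiveSpecialLinearGroup (Fin d) F) := S0249.result d hd
  have hs' : IsSimpleGroup (X.subgroupOf L) := e'.isSimpleGroup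
  have hfaith : FaithfulSMul L Ω := ⟨fun {a b} h => Subtype.ext (Equiv.ext h)⟩
  have hna : ¬ IsMulCommutative (X.subgroupOf L) := by
    intro hcomm
    exact psl_noncomm hd hp hf hF fun a b => by
      apply e'.symm.injective
      rw [map_mul, map_mul]
      exact hcomm.is_comm.comm _ _
  have hcent : centralizer ((X.subgroupOf L : Subgroup L) : Set L) = ⊥ := by
    by_contra hne
    have h1 := hmin ((centralizer ((X.subgroupOf L : Subgroup L) : Set L)).map L.subtype) (map_subtype_le _) (by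
      rw [← comap_subtype, comap_map_eq_self_of_injective (subtype_injective L)]
      infer_instance) (fun h => hne ((map_eq_bot_iff_of_injective _ (subtype_injective L)).1 h))
    apply hna
    refine ⟨⟨fun a b => Subtype.ext ?_⟩⟩
    obtain ⟨c, hc1, hc2⟩ := h1 (mem_subgroupOf.1 a.2)
    have hca : c = a.1 := subtype_injective L hc2
    have := mem_centralizer_iff.1 hc1 b.1 b.2
    rw [hca] at this
    exact this.symm
  exact ⟨X.subgroupOf L, F, _, _, ⟨inferInstance, inferInstance, hfaith, twoTr_iff' h2, hXn, hs', hna, hcent⟩, hF, ⟨e'⟩⟩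

open Cfsg.Agent.H115.Tits in
/-- **`StPslSemi`** -/
theorem st_psl_semi : StPslSemi.{v} := by
  intro Ω _ L p d f h2 h a M hM hsub hsemi
  obtain ⟨hd, hf, hp, hc, -⟩ := id h
  obtain ⟨T, F, _, _, A, hF, ⟨e⟩⟩ := as_of h2 h
  have := Fact.mk hp
  have hchar : CharP F p := by
    obtain ⟨r, hr⟩ := CharP.exists F
    have hrp : r.Prime := (CharP.char_is_prime_or_zero F r).resolve_right (CharP.char_ne_zero_of_finite F r)
    obtain ⟨k, -, hk⟩ := FiniteField.card F r
    have h3 : r ∣ p ^ f := by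
      rw [← hF, hk]
      exact dvd_pow_self r k.ne_zero
    have h4 := (Nat.prime_dvd_prime_iff_eq hrp hp).1 (hrp.dvd_of_dvd_pow h3)
    rwa [← h4]
  have hpn : ¬ p ∣ Nat.card Ω := by
    intro hpd
    have h1 : p ∣ (p ^ f) ^ d - 1 := hc ▸ hpd.mul_right _
    have h3 : p ∣ (p ^ f) ^ d := by
      rw [← pow_mul]
      exact dvd_pow_self p (Nat.mul_ne_zero (by omega) (by omega))
    have h4 : 0 < (p ^ f) ^ d := Nat.pow_pos (Nat.pow_pos hp.pos)
    have h5 : p ∣ 1 := by
      have h6 := Nat.dvd_sub h3 h1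
      have h7 : (p ^ f) ^ d - ((p ^ f) ^ d - 1) = 1 := by omega
      rwa [h7] at h6
    exact hp.one_lt.ne' (Nat.dvd_one.1 h5)
  obtain ⟨m, rfl⟩ : ∃ m, d = m + 1 + 1 := ⟨d - 2, by omega⟩
  obtain ⟨e', Φ, hΦ⟩ := H410.ASLie.psl_equiv A e hpn
  have hfaith := A.faithful
  have hnorm := A.normal
  have hact : ∀ (y : T) (s : Matrix.SpecialLinearGroup (Fin (m + 1 + 1)) F),
      (s : Matrix.ProjectiveSpecialLinearGroup (Fin (m + 1 + 1)) F) = e' y → ∀ ω w, Pt Φ ω w →
        Pt Φ ((y : L) • ω) (s.1.mulVec w) := by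
    intro y s hys ω w hw
    obtain ⟨hw0, hw⟩ := hw
    refine ⟨mulVec_ne hw0, ?_⟩
    have h1 : Φ (y • ω) = s • Φ ω := by
      rw [hΦ, ← hys]
      exact Matrix.ProjectiveSpecialLinearGroup.smul_proj_mk s (Φ ω)
    have h3 : Φ ((y : L) • ω) = s • Φ ω := h1
    rw [h3, hw]
    rfl
  have P : PA T Φ := by
    refine ⟨fun g hg => ?_, fun g t ht => hnorm.conj_mem t ht g, fun t ht => ?_, fun s => ?_⟩
    · apply FaithfulSMul.eq_of_smul_eq_smul (α := Ω)
      intro ω
      rw [hg ω, one_smul]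
    · obtain ⟨s, hs⟩ := QuotientGroup.mk_surjective (e' ⟨t, ht⟩)
      exact ⟨s, hact ⟨t, ht⟩ s hs⟩
    · refine ⟨(e'.symm (s : Matrix.ProjectiveSpecialLinearGroup (Fin (m + 1 + 1)) F) : T), (e'.symm _).2, ?_⟩
      exact hact _ s (by rw [MulEquiv.apply_symm_apply])
  obtain ⟨v, hv⟩ := pt_exists Φ a
  have h3 : 3 ≤ m + 1 + 1 := hd
  -- `M` meets the group of elations trivially
  have hME : ∀ g ∈ P.El v, (g : Equiv.Perm Ω) ∈ M → g = 1 := by
    intro g hg hgM
    obtain ⟨b, hba, hb⟩ := P.El_second h3 hv hg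
    exact Subtype.ext (hsemi g hgM b hba hb)
  -- elements of order prime to `p`
  have key : ∀ x ∈ M, ∀ r : ℕ, x ^ r = 1 → Nat.Coprime r p → x = 1 := by
    intro x hx r hxr hrp
    have hxS := hM hx
    set X : L := ⟨x, hxS.1⟩ with hX
    have hXa : X • a = a := hxS.2
    have hXr : X ^ r = 1 := Subtype.ext hxr
    obtain ⟨k, hk⟩ := subnormal_ad' hM hsub hx
    have h4 : ∀ t : L, ∀ j : ℕ, (((ad X)^[j] t : L) : Equiv.Perm Ω) = (ad x)^[j] (t : Equiv.Perm Ω) := by
      intro t j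
      induction j with
      | zero => rfl
      | succ j ih =>
        rw [Function.iterate_succ_apply', Function.iterate_succ_apply', ← ih]
        rfl
    have hconj : ∀ t ∈ P.El v, X * t * X⁻¹ ∈ P.El v := fun t ht => P.El_conj h3 hv hXa ht
    have hadE : ∀ j : ℕ, ∀ t ∈ P.El v, (ad X)^[j] t ∈ P.El v := by
      intro j
      induction j with
      | zero => exact fun t ht => ht
      | succ j ih =>
        intro t ht
        rw [Function.iterate_succ_apply']
        exact mul_mem (hconj _ (ih t ht)) (inv_mem (ih t ht))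
    have h5 : ∀ t ∈ P.El v, (ad X)^[k] t = 1 := by
      intro t ht
      apply hME _ (hadE k t ht)
      rw [h4]
      refine hk _ ⟨t.2, ?_⟩
      exact P.El_fix hv ht
    have h6 := ad_eq_one (P.El v) (p := p) (fun a ha => P.El_exp ha) hconj hXr hrp h5
    have h7 := P.El_cent hv hXa h6 hXr hrp
    exact congrArg Subtype.val h7
  refine IsPGroup.of_card (n := (Nat.card M).primeFactorsList.length)
    (Nat.eq_prime_pow_of_unique_prime_dvd Nat.card_pos.ne' ?_)
  intro r hr hrM
  have := Fact.mk hr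
  by_contra hrp
  obtain ⟨x, hx⟩ := exists_prime_orderOf_dvd_card' (G := M) r hrM
  have h5 := key x x.2 r (by
    have : x ^ r = 1 := by rw [← hx, pow_orderOf_eq_one]
    exact congrArg Subtype.val this) ((Nat.coprime_primes hr hp).2 hrp)
  have h6 : x = 1 := Subtype.ext h5
  rw [h6, orderOf_one] at hx
  exact hr.one_lt.ne hx

end Cfsg.Agent.H270.Tits
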