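import Cfsg.Agent.H270.Tits.SocLe

/-!
# S3414, case (B): the rows `PSL_3(3)`, `PSL_3(7)`, `PSL_7(2)` (helper270)

A 2-transitive subgroup `L'` of a 2-transitive group `L` with socle `T = PSL_3(3), PSL_3(7), PSL_7(2)` of degree
13, 57, 127 contains `T`.
-/

set_option autoImplicit false

namespace Cfsg.Agent.H270.Tits

open Subgroup Cfsg.Agent.H873.Tits Cfsg.Agent.H384.TwoTrans

universe u v

/-- no field of order divisible by two primes -/
theorem no_field {F : Type} [Field F] [Fintype F] {a b : ℕ} (ha : a.Prime) (hb : b.Prime) (hab : a ≠ b)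
    (h1 : a ∣ Fintype.card F) (h2 : b ∣ Fintype.card F) : False := by
  obtain ⟨p, n, hp, -, h⟩ := (isPrimePow_nat_iff _).1 (Fintype.isPrimePow_card_of_field (α := F))
  rw [← h] at h1 h2
  have e1 := (Nat.prime_dvd_prime_iff_eq ha hp).1 (ha.dvd_of_dvd_pow h1)
  have e2 := (Nat.prime_dvd_prime_iff_eq hb hp).1 (hb.dvd_of_dvd_pow h2)
  exact hab (e1.trans e2.symm)

/-- the equation `n (q - 1) = q ^ d - 1` -/
theorem psl_eq {n q d : ℕ} (hn : 2 ≤ n) (hn' : n < 2 ^ 8) (hq : 2 ≤ q) (hd : 2 ≤ d) (h : n * (q - 1) = q ^ d - 1) :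
    q ∣ n - 1 ∧ d < 17 ∧ q ^ d + (n - 1) = n * q := by
  have hpos : 1 ≤ q ^ d := Nat.one_le_pow _ _ (by omega)
  obtain ⟨m, rfl⟩ : ∃ m, n = m + 1 := ⟨n - 1, by omega⟩
  obtain ⟨r, rfl⟩ : ∃ r, q = r + 1 := ⟨q - 1, by omega⟩
  rw [Nat.add_sub_cancel] at h ⊢
  have h1 : (r + 1) ^ d + m = (m + 1) * (r + 1) := by
    have : (m + 1) * (r + 1) = (m + 1) * r + (m + 1) := by ring
    omega
  have h2 : (r + 1) ∣ m := by
    have h3 : (r + 1) ∣ (r + 1) ^ d := dvd_pow_self _ (by omega)
    have h4 : (r + 1) ∣ (r + 1) ^ d + m := h1 ▸ Dvd.intro_left _ rfl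
    exact (Nat.dvd_add_right h3).1 h4
  refine ⟨h2, ?_, h1⟩
  by_contra hcon
  push Not at hcon
  have h3 : r + 1 ≤ m := Nat.le_of_dvd (by omega) h2
  have h5 : 2 ^ 17 ≤ (r + 1) ^ d := (Nat.pow_le_pow_right (by norm_num) hcon).trans (Nat.pow_le_pow_left hq d)
  have h6 : (m + 1) * (r + 1) ≤ 2 ^ 8 * 2 ^ 8 := Nat.mul_le_mul hn'.le (by omega)
  norm_num at h5 h6
  omega

/-- the list for the degrees 13, 57, 127 -/
theorem known3 {T : Type u} [Group T] {n : ℕ} (h : Known2 T n) (hn : n = 13 ∨ n = 57 ∨ n = 127) :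
    Nonempty (T ≃* ↥(alternatingGroup (Fin n))) ∨
      ∃ (F : Type) (_ : Field F) (_ : Fintype F) (d : ℕ), ((n = 13 ∧ Fintype.card F = 3 ∧ d = 3) ∨
        (n = 57 ∧ Fintype.card F = 7 ∧ d = 3) ∨ (n = 127 ∧ Fintype.card F = 2 ∧ d = 7)) ∧
        Nonempty (T ≃* Matrix.ProjectiveSpecialLinearGroup (Fin d) F) := by
  cases h with
  | alt n h5 e => exact Or.inl e
  | psl F d n hd hd2 e h1 =>
    suffices hh : (n = 13 ∧ Fintype.card F = 3 ∧ d = 3) ∨ (n = 57 ∧ Fintype.card F = 7 ∧ d = 3) ∨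
        (n = 127 ∧ Fintype.card F = 2 ∧ d = 7) from Or.inr ⟨F, _, _, d, hh, e⟩
    clear e
    obtain ⟨h2, h3, h4⟩ := psl_eq (n := n) (by omega) (by omega) Fintype.one_lt_card hd h1
    have hF1 : 1 < Fintype.card F := Fintype.one_lt_card
    have hno : ∀ a b : ℕ, a.Prime → b.Prime → a ≠ b → ¬ (a ∣ Fintype.card F ∧ b ∣ Fintype.card F) :=
      fun a b ha hb hab h => no_field ha hb hab h.1 h.2
    generalize Fintype.card F = q at *
    have h23 := hno 2 3 Nat.prime_two Nat.prime_three (by norm_num)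
    have h27 := hno 2 7 Nat.prime_two (by norm_num) (by norm_num)
    have hq : q < 128 := by
      have := Nat.le_of_dvd (by omega) h2
      omega
    rcases hn with rfl | rfl | rfl
    · have key : ∀ q < 128, ∀ d < 17, 2 ≤ q ∧ 2 ≤ d ∧ q ^ d + 12 = 13 * q → (q = 3 ∧ d = 3) ∨ q = 12 := by
        decide +kernel
      rcases key q hq d h3 ⟨hF1, hd, h4⟩ with h | rfl
      · exact Or.inl ⟨rfl, h⟩
      · exact absurd ⟨by norm_num, by norm_num⟩ h23
    · have key : ∀ q < 128, ∀ d < 17, 2 ≤ q ∧ 2 ≤ d ∧ q ^ d + 56 = 57 * q → (q = 7 ∧ d = 3) ∨ q = 56 := by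
        decide +kernel
      rcases key q hq d h3 ⟨hF1, hd, h4⟩ with h | rfl
      · exact Or.inr (Or.inl ⟨rfl, h⟩)
      · exact absurd ⟨by norm_num, by norm_num⟩ h27
    · have key : ∀ q < 128, ∀ d < 17, 2 ≤ q ∧ 2 ≤ d ∧ q ^ d + 126 = 127 * q → (q = 2 ∧ d = 7) ∨ q = 126 := by
        decide +kernel
      rcases key q hq d h3 ⟨hF1, hd, h4⟩ with h | rfl
      · exact Or.inr (Or.inr ⟨rfl, h⟩)
      · exact absurd ⟨by norm_num, by norm_num⟩ h23
  | sp F m n hF hm e h1 =>
    exfalso
    have h2 : 2 ∣ 2 ^ (m - 1) := dvd_pow_self 2 (by omega)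
    have h3 : 2 ∣ n := by
      rcases h1 with h1 | h1 <;> rw [h1] <;> exact h2.mul_right _
    omega
  | psu F q n hq hF e h1 =>
    exfalso
    have h3 : q < 6 := by
      by_contra hcon
      push Not at hcon
      have := Nat.pow_le_pow_left hcon 3
      omega
    interval_cases q <;> omega
  | sz F m n hm hF e h1 =>
    exfalso
    generalize Fintype.card F = q at h1
    have h3 : q < 12 := by
      by_contra hcon
      push Not at hcon
      have := Nat.pow_le_pow_left hcon 2
      omega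
    interval_cases q <;> omega
  | ree K m n hm hK e h1 =>
    exfalso
    generalize Fintype.card K = q at h1
    have h3 : q < 6 := by
      by_contra hcon
      push Not at hcon
      have := Nat.pow_le_pow_left hcon 3
      omega
    interval_cases q <;> omega
  | _ => omega

theorem card_psl33 {F : Type} [Field F] [Fintype F] (hF : Fintype.card F = 3) :
    Nat.card (Matrix.ProjectiveSpecialLinearGroup (Fin 3) F) = 13 * 432 := by
  have h := S0243.result hF 3 (by norm_num)
  simp only [Fin.prod_univ_succ] at h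
  norm_num at h
  omega

theorem card_aut33 {F : Type} [Field F] [Fintype F] (hF : Fintype.card F = 3) :
    Nat.card (MulAut (Matrix.ProjectiveSpecialLinearGroup (Fin 3) F)) = 2 * (13 * 432) := by
  have : Fact (Nat.Prime 3) := ⟨Nat.prime_three⟩
  have h1 := S0242.result hF 3 (by norm_num)
  rw [S0813.result 3 1 le_rfl (by rw [hF, pow_one]) 3 (by omega) (fun h => by omega), S0265.result 3, if_neg (by omega)]
  simp only [Fin.prod_univ_succ] at h1
  norm_num at h1
  omega

theorem card_psl37 {F : Type} [Field F] [Fintype F] (hF : Fintype.card F = 7) :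
    Nat.card (Matrix.ProjectiveSpecialLinearGroup (Fin 3) F) = 1876896 := by
  have h := S0243.result hF 3 (by norm_num)
  simp only [Fin.prod_univ_succ] at h
  norm_num at h
  omega

theorem card_aut37 {F : Type} [Field F] [Fintype F] (hF : Fintype.card F = 7) :
    Nat.card (MulAut (Matrix.ProjectiveSpecialLinearGroup (Fin 3) F)) = 6 * 1876896 := by
  have : Fact (Nat.Prime 7) := ⟨by norm_num⟩
  have h1 := S0242.result hF 3 (by norm_num)
  rw [S0813.result 7 1 le_rfl (by rw [hF, pow_one]) 3 (by omega) (fun h => by omega), S0265.result 3, if_neg (by omega)]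
  simp only [Fin.prod_univ_succ] at h1
  norm_num at h1
  omega

theorem card_alt (n : ℕ) (hn : 2 ≤ n) : 2 * Nat.card (alternatingGroup (Fin n)) = Nat.factorial n := by
  have : Nontrivial (Fin n) := Fin.nontrivial_iff_two_le.2 hn
  rw [two_mul_nat_card_alternatingGroup, Nat.card_perm, Nat.card_fin]

variable {Ω : Type v} [Finite Ω]

/-- **degree 57** -/
theorem row57 {L L' : Subgroup (Equiv.Perm Ω)} {T : Subgroup L} (A : AS L Ω T) (hL : L' ≤ L) (h2 : TwoTr L')
    (hΩ : Nat.card Ω = 57) {F : Type} [Field F] [Fintype F] (hF : Fintype.card F = 7)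
    (e : T ≃* Matrix.ProjectiveSpecialLinearGroup (Fin 3) F) : T.map L.subtype ≤ L' ∧ KillRow L L' := by
  have := A.normal
  have hT : Nat.card T = 1876896 := by rw [Nat.card_congr e.toEquiv, card_psl37 hF]
  have hLd := Cfsg.Agent.Omega.TwoF.Rk.card_dvd T e A.cent
  rw [card_aut37 hF] at hLd
  have hLle := Nat.le_of_dvd (by norm_num) hLd
  have hL'le : Nat.card L' ≤ Nat.card L := Nat.le_of_dvd Nat.card_pos (card_dvd_of_le hL)
  have key : T.map L.subtype ≤ L' := by
    rcases reduction (twoTr_iff h2) (by omega) with ⟨N, hN, hN1, hNc, ⟨p, hp, hNp⟩, htr, hst⟩ | ⟨T', A'⟩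
    · exfalso
      have : Fact p.Prime := ⟨hp⟩
      have hpg : IsPGroup p N := by
        intro x
        exact ⟨1, by rw [pow_one]; exact Subtype.ext (hNp x x.2)⟩
      obtain ⟨k, hk⟩ := IsPGroup.iff_card.1 hpg
      have hne : Nonempty Ω := by
        rw [← Finite.card_pos_iff]; omega
      obtain ⟨a⟩ := hne
      have hcard : Nat.card N = 57 := by
        rw [← hΩ]
        refine Nat.card_congr (Equiv.ofBijective (fun n : N => (n : L') • a) ⟨?_, ?_⟩)
        · intro x y hxy
          have h1 : ((x : L')⁻¹ * (y : L')) • a = a := by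
            rw [mul_smul]
            have h2 : (x : L') • a = (y : L') • a := hxy
            rw [← h2, inv_smul_smul]
          have h3 := hst a _ (mul_mem (inv_mem x.2) y.2) h1
          exact Subtype.ext (inv_mul_eq_one.1 h3)
        · intro b
          obtain ⟨n, hn, h1⟩ := htr a b
          exact ⟨⟨n, hn⟩, h1⟩
      rw [hcard] at hk
      have h3 : 3 ∣ p ^ k := hk ▸ (by norm_num)
      have h19 : 19 ∣ p ^ k := hk ▸ (by norm_num)
      have e1 := (Nat.prime_dvd_prime_iff_eq Nat.prime_three hp).1 (Nat.prime_three.dvd_of_dvd_pow h3)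
      have e2 := (Nat.prime_dvd_prime_iff_eq (by norm_num : Nat.Prime 19) hp).1
        ((by norm_num : Nat.Prime 19).dvd_of_dvd_pow h19)
      omega
    · have hK := Cfsg.Agent.H384.TwoTransMain.main (fun X _ _ _ => Cfsg.Agent.S0000.result) A'
      rcases known3 hK (Or.inr (Or.inl hΩ)) with ⟨⟨e'⟩⟩ | ⟨F', _, _, d, hd, ⟨e'⟩⟩
      · exfalso
        have h1 := Nat.le_of_dvd Nat.card_pos (card_subgroup_dvd_card T')
        rw [Nat.card_congr e'.toEquiv, hΩ] at h1
        have h3 := card_alt 57 (by norm_num)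
        have h4 : 2 * (6 * 1876896) < Nat.factorial 57 := by decide +kernel
        omega
      · rcases hd with ⟨h3, -⟩ | ⟨-, h3, rfl⟩ | ⟨h3, -⟩
        · omega
        · refine soc_le_of A hL A' ?_ (by rw [hT]; omega)
          rw [Nat.card_congr e'.toEquiv, card_psl37 h3, hT]
        · omega
  exact ⟨key, kill_of A key (by rw [hΩ, hT]; norm_num)⟩

/-- **degree 13** -/
theorem row13 {L L' : Subgroup (Equiv.Perm Ω)} {T : Subgroup L} (A : AS L Ω T) (hL : L' ≤ L) (h2 : TwoTr L')
    (hΩ : Nat.card Ω = 13) {F : Type} [Field F] [Fintype F] (hF : Fintype.card F = 3)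
    (e : T ≃* Matrix.ProjectiveSpecialLinearGroup (Fin 3) F) : T.map L.subtype ≤ L' ∧ KillRow L L' := by
  have := A.normal
  have hnt := A.nontrivialΩ
  have hT : Nat.card T = 13 * 432 := by rw [Nat.card_congr e.toEquiv, card_psl33 hF]
  have hLd := Cfsg.Agent.Omega.TwoF.Rk.card_dvd T e A.cent
  rw [card_aut33 hF] at hLd
  have hLle := Nat.le_of_dvd (by norm_num) hLd
  have hL'le : Nat.card L' ≤ Nat.card L := Nat.le_of_dvd Nat.card_pos (card_dvd_of_le hL)
  have key : T.map L.subtype ≤ L' := by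
    rcases reduction (twoTr_iff h2) (by omega) with ⟨N, hN, hN1, hNc, -, htr, hst⟩ | ⟨T', A'⟩
    · exfalso
      have hp : Nat.Prime 13 := by norm_num
      have h3 := prime_aff hp hΩ h2 N hN hNc htr hst
      obtain ⟨c, hc⟩ := card_subgroup_dvd_card T
      rw [hT] at hc
      have hc2 : c ∣ 2 := by
        have h4 : 13 * 432 * c ∣ 13 * 432 * 2 := by
          rw [← hc, mul_comm _ 2]; exact hLd
        exact Nat.dvd_of_mul_dvd_mul_left (by norm_num) h4
      obtain ⟨a, b, m, n, ha, hb, ham, hbn, hmn, hn⟩ := prime_degree hp hΩ L' L hL (pretrans h2)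
      have ha' : a = 12 := by omega
      have hb' : b = 432 * c := by
        apply Nat.eq_of_mul_eq_mul_left (show 0 < 13 by norm_num)
        rw [← hb, hc]; ring
      have hn' : n ≤ 12 := Nat.le_of_dvd (by norm_num) hn
      have hm' : m ≤ n := Nat.le_of_dvd (Nat.pos_of_dvd_of_pos hn (by norm_num)) hmn
      subst ha' hb'
      have e1 : 12 % 13 = m % 13 := ham
      have e2 : 432 * c % 13 = n % 13 := hbn
      rcases (Nat.dvd_prime Nat.prime_two).1 hc2 with rfl | rfl <;> omega
    · have hK := Cfsg.Agent.H384.TwoTransMain.main (fun X _ _ _ => Cfsg.Agent.S0000.result) A'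
      rcases known3 hK (Or.inl hΩ) with ⟨⟨e'⟩⟩ | ⟨F', _, _, d, hd, ⟨e'⟩⟩
      · exfalso
        have h1 := Nat.le_of_dvd Nat.card_pos (card_subgroup_dvd_card T')
        rw [Nat.card_congr e'.toEquiv, hΩ] at h1
        have h3 := card_alt 13 (by norm_num)
        have h4 : 2 * (2 * (13 * 432)) < Nat.factorial 13 := by decide +kernel
        omega
      · rcases hd with ⟨-, h3, rfl⟩ | ⟨h3, -⟩ | ⟨h3, -⟩
        · refine soc_le_of A hL A' ?_ (by rw [hT]; omega)
          rw [Nat.card_congr e'.toEquiv, card_psl33 h3, hT]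
        · omega
        · omega
  exact ⟨key, kill_of A key (by rw [hΩ, hT]; norm_num)⟩

/-- **degree 127** -/
theorem row127 {L L' : Subgroup (Equiv.Perm Ω)} {T : Subgroup L} (A : AS L Ω T) (hL : L' ≤ L) (h2 : TwoTr L')
    (hΩ : Nat.card Ω = 127) {F : Type} [Field F] [Fintype F] (hF : Fintype.card F = 2)
    (e : T ≃* Matrix.ProjectiveSpecialLinearGroup (Fin 7) F) : T.map L.subtype ≤ L' ∧ KillRow L L' := by
  have := A.normal
  have hnt := A.nontrivialΩ
  have hT : Nat.card T = 127 * (2 ^ 21 * 63 * 9765) := by rw [Nat.card_congr e.toEquiv, card_psl72 hF]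
  have hLd := Cfsg.Agent.Omega.TwoF.Rk.card_dvd T e A.cent
  rw [card_aut72 hF] at hLd
  have hLle := Nat.le_of_dvd (by norm_num) hLd
  have hL'le : Nat.card L' ≤ Nat.card L := Nat.le_of_dvd Nat.card_pos (card_dvd_of_le hL)
  have key : T.map L.subtype ≤ L' := by
    rcases reduction (twoTr_iff h2) (by omega) with ⟨N, hN, hN1, hNc, -, htr, hst⟩ | ⟨T', A'⟩
    · exfalso
      have hp : Nat.Prime 127 := by norm_num
      have h3 := prime_aff hp hΩ h2 N hN hNc htr hst
      obtain ⟨c, hc⟩ := card_subgroup_dvd_card T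
      rw [hT] at hc
      have hc2 : c ∣ 2 := by
        have h4 : 127 * (2 ^ 21 * 63 * 9765) * c ∣ 127 * (2 ^ 21 * 63 * 9765) * 2 := by
          rw [← hc, mul_comm _ 2]; exact hLd
        exact Nat.dvd_of_mul_dvd_mul_left (by norm_num) h4
      obtain ⟨a, b, m, n, ha, hb, ham, hbn, hmn, hn⟩ := prime_degree hp hΩ L' L hL (pretrans h2)
      have ha' : a = 126 := by omega
      have hb' : b = 2 ^ 21 * 63 * 9765 * c := by
        apply Nat.eq_of_mul_eq_mul_left (show 0 < 127 by norm_num)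
        rw [← hb, hc]; ring
      have hn' : n ≤ 126 := Nat.le_of_dvd (by norm_num) hn
      have hm' : m ≤ n := Nat.le_of_dvd (Nat.pos_of_dvd_of_pos hn (by norm_num)) hmn
      subst ha' hb'
      have e1 : 126 % 127 = m % 127 := ham
      have e2 : 2 ^ 21 * 63 * 9765 * c % 127 = n % 127 := hbn
      rcases (Nat.dvd_prime Nat.prime_two).1 hc2 with rfl | rfl <;> norm_num at e2 <;> omega
    · have hK := Cfsg.Agent.H384.TwoTransMain.main (fun X _ _ _ => Cfsg.Agent.S0000.result) A'
      rcases known3 hK (Or.inr (Or.inr hΩ)) with ⟨⟨e'⟩⟩ | ⟨F', _, _, d, hd, ⟨e'⟩⟩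
      · exfalso
        have h1 := Nat.le_of_dvd Nat.card_pos (card_subgroup_dvd_card T')
        rw [Nat.card_congr e'.toEquiv, hΩ] at h1
        have h3 := card_alt 127 (by norm_num)
        have h4 : 2 * (2 * (127 * (2 ^ 21 * 63 * 9765))) < Nat.factorial 127 := by decide +kernel
        have h5 : 2 * Nat.card (alternatingGroup (Fin 127)) ≤ 2 * (2 * (127 * (2 ^ 21 * 63 * 9765))) :=
          Nat.mul_le_mul_left 2 (h1.trans (hL'le.trans hLle))
        rw [h3] at h5
        exact absurd h5 (Nat.not_le.2 h4)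
      · rcases hd with ⟨h3, -⟩ | ⟨h3, -⟩ | ⟨-, h3, rfl⟩
        · omega
        · omega
        · refine soc_le_of A hL A' ?_ (lt_of_le_of_lt hLle (by rw [hT]; norm_num))
          rw [Nat.card_congr e'.toEquiv, card_psl72 h3, hT]
  exact ⟨key, kill_of A key (by rw [hΩ, hT]; norm_num)⟩

end Cfsg.Agent.H270.Tits
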