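import Mathlib

/-!
# Elations (helper270)

`G` acts faithfully on `Ω`, `T` is a normal subgroup which acts on `Ω = ℙ(F^n)`, `n ≥ 3`, as `PSL_n(F)`.  For a point `a`
with vector `v` the group `El v` of the elations with centre `a`:

* `El.conj` : it is normal in the stabilizer of `a` in `G`;
* `El.second` : every element fixes a second point;
* `El.cent` : elements of order prime to `p` of the stabilizer of `a` in `G` centralizing it are trivial.
-/

set_option autoImplicit false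

namespace Cfsg.Agent.H270.Tits.Elat

open scoped LinearAlgebra.Projectivization
open Module

universe u v w

variable {F : Type w} [Field F] {n : ℕ}

/-! ## linear algebra -/

theorem exists_dual_one {v w : Fin n → F} (h : w ∉ Submodule.span F {v}) (c : F) :
    ∃ f : Dual F (Fin n → F), f v = 0 ∧ f w = c := by
  obtain ⟨f, hf, hfW⟩ := Submodule.exists_le_ker_of_notMem h
  refine ⟨(c * (f w)⁻¹) • f, ?_, ?_⟩
  · rw [LinearMap.smul_apply, show f v = 0 from hfW (Submodule.mem_span_singleton_self v), smul_zero]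
  · rw [LinearMap.smul_apply, smul_eq_mul, inv_mul_cancel_right₀ hf]

theorem exists_dual_two {v w w' : Fin n → F} (h : w' ∉ Submodule.span F {v, w}) :
    ∃ f : Dual F (Fin n → F), f v = 0 ∧ f w = 0 ∧ f w' ≠ 0 := by
  obtain ⟨f, hf, hfW⟩ := Submodule.exists_le_ker_of_notMem h
  exact ⟨f, hfW (Submodule.subset_span (by simp)), hfW (Submodule.subset_span (by simp)), hf⟩

theorem finrank_span_pair_le (v w : Fin n → F) : finrank F (Submodule.span F ({v, w} : Set (Fin n → F))) ≤ 2 := by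
  classical
  have h := finrank_span_finset_le_card (R := F) ({v, w} : Finset (Fin n → F))
  have h2 : ({v, w} : Finset (Fin n → F)).card ≤ 2 := Finset.card_le_two
  have h3 : ((({v, w} : Finset (Fin n → F)) : Set (Fin n → F))) = {v, w} := by simp
  rw [h3] at h
  exact h.trans h2

theorem exists_notMem_span_pair (h3 : 3 ≤ n) (v w : Fin n → F) : ∃ u, u ∉ Submodule.span F ({v, w} : Set (Fin n → F)) := by
  by_contra hcon
  push Not at hcon
  have h1 : Submodule.span F ({v, w} : Set (Fin n → F)) = ⊤ := by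
    rw [eq_top_iff]
    intro x _
    exact hcon x
  have h2 := finrank_span_pair_le v w
  rw [h1, finrank_top, finrank_fintype_fun_eq_card, Fintype.card_fin] at h2
  omega

/-- a functional has a zero outside a given line -/
theorem exists_zero (h3 : 3 ≤ n) (f : Dual F (Fin n → F)) (v : Fin n → F) :
    ∃ w, f w = 0 ∧ w ∉ Submodule.span F {v} := by
  by_cases hf : ∃ u, f u ≠ 0
  · obtain ⟨u, hu⟩ := hf
    obtain ⟨x, hx⟩ := exists_notMem_span_pair h3 v u
    refine ⟨x - (f x * (f u)⁻¹) • u, ?_, ?_⟩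
    · rw [map_sub, map_smul, smul_eq_mul, inv_mul_cancel_right₀ hu, sub_self]
    · intro h
      apply hx
      have h1 : x = (x - (f x * (f u)⁻¹) • u) + (f x * (f u)⁻¹) • u := by rw [sub_add_cancel]
      rw [h1]
      refine Submodule.add_mem _ (Submodule.span_mono (by simp) h) (Submodule.smul_mem _ _ (Submodule.subset_span (by simp)))
  · push Not at hf
    obtain ⟨x, hx⟩ := exists_notMem_span_pair h3 v v
    refine ⟨x, hf x, ?_⟩
    simpa using hx

theorem mem_span_of_dual {v x : Fin n → F} (h : ∀ f : Dual F (Fin n → F), f v = 0 → f x = 0) :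
    x ∈ Submodule.span F {v} := by
  by_contra hx
  obtain ⟨f, hf, hfW⟩ := Submodule.exists_le_ker_of_notMem hx
  exact hf (h f (hfW (Submodule.mem_span_singleton_self v)))

/-- a transvection as an element of `SL` -/
theorem exists_transv (f : Dual F (Fin n → F)) (v : Fin n → F) (h : f v = 0) :
    ∃ s : Matrix.SpecialLinearGroup (Fin n) F, ∀ w, s.1.mulVec w = w + f w • v := by
  refine ⟨⟨LinearMap.toMatrix' (LinearMap.transvection f v), ?_⟩, fun w => ?_⟩
  · rw [LinearMap.det_toMatrix', LinearMap.transvection.det, h, add_zero]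
  · show (LinearMap.toMatrix' (LinearMap.transvection f v)).mulVec w = _
    rw [LinearMap.toMatrix'_mulVec, LinearMap.transvection.apply]

theorem inv_mulVec (s : Matrix.SpecialLinearGroup (Fin n) F) (w : Fin n → F) : s⁻¹.1.mulVec (s.1.mulVec w) = w := by
  rw [Matrix.mulVec_mulVec, ← Matrix.SpecialLinearGroup.coe_mul, inv_mul_cancel, Matrix.SpecialLinearGroup.coe_one,
    Matrix.one_mulVec]

theorem mulVec_inv (s : Matrix.SpecialLinearGroup (Fin n) F) (w : Fin n → F) : s.1.mulVec (s⁻¹.1.mulVec w) = w := by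
  rw [Matrix.mulVec_mulVec, ← Matrix.SpecialLinearGroup.coe_mul, mul_inv_cancel, Matrix.SpecialLinearGroup.coe_one,
    Matrix.one_mulVec]

theorem mulVec_ne {s : Matrix.SpecialLinearGroup (Fin n) F} {w : Fin n → F} (hw : w ≠ 0) : s.1.mulVec w ≠ 0 := by
  intro h
  apply hw
  rw [← inv_mulVec s w, h, Matrix.mulVec_zero]

/-- either `s` is a multiple of a transvection with centre `v` or some commutator with a transvection with centre `v`
is a nontrivial one -/
theorem lin_dich {s : Matrix.SpecialLinearGroup (Fin n) F} {v : Fin n → F} (hv : v ≠ 0) {μ : F}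
    (hμ : s.1.mulVec v = μ • v) (hμ0 : μ ≠ 0) :
    (∃ f : Dual F (Fin n → F), f v = 0 ∧ ∀ w, s.1.mulVec w = μ • (w + f w • v)) ∨
      ∃ f h : Dual F (Fin n → F), f v = 0 ∧ h v = 0 ∧ h ≠ 0 ∧ ∀ w,
        s.1.mulVec (s⁻¹.1.mulVec (w - f w • v) + f (s⁻¹.1.mulVec (w - f w • v)) • v) = w + h w • v := by
  let S' : (Fin n → F) →ₗ[F] (Fin n → F) := s⁻¹.1.mulVecLin
  have hS' : ∀ w, S' w = s⁻¹.1.mulVec w := fun w => rfl
  have hS'v : μ • S' v = v := by
    have h1 := inv_mulVec s v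
    rw [hμ, Matrix.mulVec_smul] at h1
    exact h1
  by_cases hall : ∀ f : Dual F (Fin n → F), f v = 0 → ∀ w, μ * f (S' w) = f w
  · left
    let D : (Fin n → F) →ₗ[F] (Fin n → F) := μ • S' - LinearMap.id
    have hD : ∀ w, D w = μ • S' w - w := fun w => rfl
    have hr : ∀ w, ∃ k : F, D w = k • v := by
      intro w
      have h1 : D w ∈ Submodule.span F {v} := by
        apply mem_span_of_dual
        intro f hf
        rw [hD, map_sub, map_smul, smul_eq_mul, hall f hf, sub_self]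
      obtain ⟨k, hk⟩ := Submodule.mem_span_singleton.1 h1
      exact ⟨k, hk.symm⟩
    obtain ⟨φ, hφ0, hφ⟩ := exists_dual_one (v := (0 : Fin n → F)) (w := v) (by simpa using hv) 1
    let g : Dual F (Fin n → F) := φ ∘ₗ D
    have hg : ∀ w, D w = g w • v := by
      intro w
      obtain ⟨k, hk⟩ := hr w
      have h1 : g w = k := by
        show φ (D w) = k
        rw [hk, map_smul, hφ, smul_eq_mul, mul_one]
      rw [h1, hk]
    have hgv : g v = 0 := by
      show φ (D v) = 0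
      rw [hD, hS'v, sub_self, map_zero]
    refine ⟨-g, by rw [LinearMap.neg_apply, hgv, neg_zero], fun w => ?_⟩
    have h1 : μ • S' w = w + g w • v := by
      have := hg w
      rw [hD, sub_eq_iff_eq_add] at this
      rw [this, add_comm]
    have h2 : μ • w = s.1.mulVec (w + g w • v) := by
      rw [← h1, Matrix.mulVec_smul, hS', mulVec_inv]
    rw [Matrix.mulVec_add, Matrix.mulVec_smul, hμ] at h2
    have h3 : s.1.mulVec w = μ • w - g w • μ • v := by rw [h2, add_sub_cancel_right]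
    rw [h3, LinearMap.neg_apply]
    module
  · right
    push Not at hall
    obtain ⟨f, hf, w₀, hw₀⟩ := hall
    let h : Dual F (Fin n → F) := μ • (f ∘ₗ S') - f
    have hh : ∀ w, h w = μ * f (S' w) - f w := fun w => rfl
    refine ⟨f, h, hf, ?_, ?_, ?_⟩
    · rw [hh, ← smul_eq_mul, ← map_smul, hS'v, sub_self]
    · intro h0
      have h1 : h w₀ ≠ 0 := by rw [hh]; exact sub_ne_zero.2 hw₀
      rw [h0] at h1
      exact h1 rfl
    · intro w
      have h1 : s⁻¹.1.mulVec (w - f w • v) = S' w - f w • S' v := by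
        rw [← hS', map_sub, map_smul]
      have h2 : f (S' v) = 0 := by
        have h4 : f (μ • S' v) = 0 := by rw [hS'v, hf]
        rw [map_smul, smul_eq_mul] at h4
        exact (mul_eq_zero.1 h4).resolve_left hμ0
      rw [h1, Matrix.mulVec_add, Matrix.mulVec_smul, hμ, map_sub, map_smul, h2, smul_zero, sub_zero, Matrix.mulVec_sub,
        Matrix.mulVec_smul, hS', hS', mulVec_inv, mulVec_inv, hh, hS']
      module

/-! ## the action -/

variable {G : Type u} {Ω : Type v} [Group G] [MulAction G Ω]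

/-- `ω` is the point of `w` -/
def Pt (Φ : Ω ≃ ℙ F (Fin n → F)) (ω : Ω) (w : Fin n → F) : Prop := ∃ hw : w ≠ 0, Φ ω = Projectivization.mk F w hw

section Pt

variable {Φ : Ω ≃ ℙ F (Fin n → F)} {ω ω' : Ω} {w w' : Fin n → F}

theorem Pt.ne (h : Pt Φ ω w) : w ≠ 0 := h.1

theorem pt_exists (Φ : Ω ≃ ℙ F (Fin n → F)) (ω : Ω) : ∃ w, Pt Φ ω w :=
  ⟨(Φ ω).rep, (Φ ω).rep_nonzero, (Φ ω).mk_rep.symm⟩

theorem exists_pt (Φ : Ω ≃ ℙ F (Fin n → F)) {w : Fin n → F} (hw : w ≠ 0) : ∃ ω, Pt Φ ω w :=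
  ⟨Φ.symm (Projectivization.mk F w hw), hw, Φ.apply_symm_apply _⟩

theorem Pt.inj (h : Pt Φ ω w) (h' : Pt Φ ω' w) : ω = ω' := by
  obtain ⟨h1, h2⟩ := h
  obtain ⟨h3, h4⟩ := h'
  exact Φ.injective (h2.trans h4.symm)

theorem Pt.smul (h : Pt Φ ω w) {c : F} (hc : c ≠ 0) : Pt Φ ω (c • w) := by
  obtain ⟨h1, h2⟩ := h
  refine ⟨smul_ne_zero hc h1, ?_⟩
  rw [h2, Projectivization.mk_eq_mk_iff']
  exact ⟨c⁻¹, by rw [smul_smul, inv_mul_cancel₀ hc, one_smul]⟩

theorem Pt.unique (h : Pt Φ ω w) (h' : Pt Φ ω w') : ∃ k : F, k ≠ 0 ∧ w' = k • w := by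
  obtain ⟨h1, h2⟩ := h
  obtain ⟨h3, h4⟩ := h'
  rw [h2, Projectivization.mk_eq_mk_iff'] at h4
  obtain ⟨k, hk⟩ := h4
  have hk0 : k ≠ 0 := by
    rintro rfl
    rw [zero_smul] at hk
    exact h1 hk.symm
  exact ⟨k⁻¹, inv_ne_zero hk0, by rw [← hk, smul_smul, inv_mul_cancel₀ hk0, one_smul]⟩

theorem Pt.eq_iff (h : Pt Φ ω w) (h' : Pt Φ ω' w') : ω = ω' ↔ ∃ k : F, k ≠ 0 ∧ w' = k • w := by
  constructor
  · rintro rfl
    exact h.unique h'
  · rintro ⟨k, hk, rfl⟩
    exact (h.smul hk).inj h'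

end Pt

/-- `T` acts on `Ω` as `PSL_n(F)` on the projective space -/
structure PA (T : Subgroup G) (Φ : Ω ≃ ℙ F (Fin n → F)) : Prop where
  faithful : ∀ g : G, (∀ ω : Ω, g • ω = ω) → g = 1
  normal : ∀ g : G, ∀ t ∈ T, g * t * g⁻¹ ∈ T
  rep : ∀ t ∈ T, ∃ s : Matrix.SpecialLinearGroup (Fin n) F, ∀ ω w, Pt Φ ω w → Pt Φ (t • ω) (s.1.mulVec w)
  real : ∀ s : Matrix.SpecialLinearGroup (Fin n) F, ∃ t ∈ T, ∀ ω w, Pt Φ ω w → Pt Φ (t • ω) (s.1.mulVec w)

variable {T : Subgroup G} {Φ : Ω ≃ ℙ F (Fin n → F)}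

/-- `g` is the elation `w ↦ w + f w v` -/
def IsE (T : Subgroup G) (Φ : Ω ≃ ℙ F (Fin n → F)) (v : Fin n → F) (f : Dual F (Fin n → F)) (g : G) : Prop :=
  g ∈ T ∧ ∀ ω w, Pt Φ ω w → Pt Φ (g • ω) (w + f w • v)

namespace PA

variable (P : PA T Φ)
include P

theorem ext {g h : G} (H : ∀ ω : Ω, g • ω = h • ω) : g = h := by
  have h1 := P.faithful (h⁻¹ * g) (fun ω => by rw [mul_smul, H, inv_smul_smul])
  rw [inv_mul_eq_one] at h1
  exact h1.symm

omit P in
/-- the inverse -/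
theorem rep_inv {t : G} {s : Matrix.SpecialLinearGroup (Fin n) F}
    (h : ∀ ω w, Pt Φ ω w → Pt Φ (t • ω) (s.1.mulVec w)) {ω : Ω} {w : Fin n → F} (hw : Pt Φ ω w) :
    Pt Φ (t⁻¹ • ω) (s⁻¹.1.mulVec w) := by
  obtain ⟨ω', hω'⟩ := exists_pt Φ (mulVec_ne (s := s⁻¹) hw.ne)
  have h1 := h _ _ hω'
  rw [mulVec_inv] at h1
  have h2 : t • ω' = ω := h1.inj hw
  rw [← h2, inv_smul_smul]
  exact hω'

variable {v : Fin n → F}

theorem exists_isE {f : Dual F (Fin n → F)} (hf : f v = 0) : ∃ g, IsE T Φ v f g := by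
  obtain ⟨s, hs⟩ := exists_transv f v hf
  obtain ⟨t, ht, h⟩ := P.real s
  refine ⟨t, ht, fun ω w hw => ?_⟩
  rw [← hs]
  exact h ω w hw

theorem isE_unique {f : Dual F (Fin n → F)} {g g' : G} (h : IsE T Φ v f g) (h' : IsE T Φ v f g') : g = g' := by
  apply P.ext
  intro ω
  obtain ⟨w, hw⟩ := pt_exists Φ ω
  exact (h.2 ω w hw).inj (h'.2 ω w hw)

omit P in
theorem isE_mul {f f' : Dual F (Fin n → F)} {g g' : G} (hf' : f v = 0) (h : IsE T Φ v f g) (h' : IsE T Φ v f' g') :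
    IsE T Φ v (f + f') (g * g') := by
  refine ⟨mul_mem h.1 h'.1, fun ω w hw => ?_⟩
  have h1 := h.2 _ _ (h'.2 _ _ hw)
  rw [map_add, map_smul, hf', smul_zero, add_zero] at h1
  rw [mul_smul, LinearMap.add_apply]
  have h2 : w + (f w + f' w) • v = w + f' w • v + f w • v := by module
  rw [h2]
  exact h1

omit P in
theorem isE_one : IsE T Φ v 0 (1 : G) := by
  refine ⟨one_mem _, fun ω w hw => ?_⟩
  rw [one_smul, LinearMap.zero_apply, zero_smul, add_zero]
  exact hw

theorem isE_inv {f : Dual F (Fin n → F)} {g : G} (hf : f v = 0) (h : IsE T Φ v f g) : IsE T Φ v (-f) g⁻¹ := by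
  obtain ⟨g', hg'⟩ := P.exists_isE (v := v) (f := -f) (by rw [LinearMap.neg_apply, hf, neg_zero])
  have h1 := isE_mul hf h hg'
  rw [add_neg_cancel] at h1
  have h2 := P.isE_unique h1 isE_one
  rw [mul_eq_one_iff_inv_eq] at h2
  rw [h2]
  exact hg'

omit P in
theorem isE_zero_iff {f : Dual F (Fin n → F)} {g : G} (h : IsE T Φ v f g) (hf : f = 0) (P : PA T Φ) : g = 1 := by
  subst hf
  exact P.isE_unique h isE_one

/-- the group of elations with centre `v` -/
def El (v : Fin n → F) : Subgroup G where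
  carrier := {g | ∃ f : Dual F (Fin n → F), f v = 0 ∧ IsE T Φ v f g}
  mul_mem' := by
    rintro a b ⟨f, hf, h⟩ ⟨f', hf', h'⟩
    exact ⟨f + f', by rw [LinearMap.add_apply, hf, hf', add_zero], isE_mul hf h h'⟩
  one_mem' := ⟨0, rfl, isE_one⟩
  inv_mem' := by
    rintro a ⟨f, hf, h⟩
    exact ⟨-f, by rw [LinearMap.neg_apply, hf, neg_zero], P.isE_inv hf h⟩

theorem mem_El {g : G} : g ∈ P.El v ↔ ∃ f : Dual F (Fin n → F), f v = 0 ∧ IsE T Φ v f g := Iff.rfl

theorem El_comm {g h : G} (hg : g ∈ P.El v) (hh : h ∈ P.El v) : g * h = h * g := by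
  obtain ⟨f, hf, h1⟩ := hg
  obtain ⟨f', hf', h2⟩ := hh
  have h3 := isE_mul hf h1 h2
  have h4 := isE_mul hf' h2 h1
  rw [add_comm] at h4
  exact P.isE_unique h3 h4

omit P in
theorem isE_pow {f : Dual F (Fin n → F)} {g : G} (hf : f v = 0) (h : IsE T Φ v f g) (k : ℕ) :
    IsE T Φ v (k • f) (g ^ k) := by
  induction k with
  | zero => rw [zero_smul, pow_zero]; exact isE_one
  | succ k ih =>
    rw [pow_succ, succ_nsmul]
    exact isE_mul (by rw [LinearMap.smul_apply, hf, smul_zero]) ih h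

theorem El_exp {p : ℕ} [CharP F p] {g : G} (hg : g ∈ P.El v) : g ^ p = 1 := by
  obtain ⟨f, hf, h1⟩ := hg
  have h2 := isE_pow hf h1 p
  refine isE_zero_iff h2 ?_ P
  ext w
  simp

theorem El_fix {a : Ω} (ha : Pt Φ a v) {g : G} (hg : g ∈ P.El v) : g • a = a := by
  obtain ⟨f, hf, h1⟩ := hg
  have h2 := h1.2 a v ha
  rw [hf, zero_smul, add_zero] at h2
  exact h2.inj ha

/-- every elation fixes a second point -/
theorem El_second (h3 : 3 ≤ n) {a : Ω} (ha : Pt Φ a v) {g : G} (hg : g ∈ P.El v) : ∃ b, b ≠ a ∧ g • b = b := by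
  obtain ⟨f, hf, h1⟩ := hg
  obtain ⟨w, hw, hwv⟩ := exists_zero h3 f v
  have hw0 : w ≠ 0 := by
    rintro rfl
    exact hwv (Submodule.zero_mem _)
  obtain ⟨b, hb⟩ := exists_pt Φ hw0
  refine ⟨b, ?_, ?_⟩
  · rintro rfl
    obtain ⟨k, -, hk⟩ := ha.unique hb
    exact hwv (Submodule.mem_span_singleton.2 ⟨k, hk.symm⟩)
  · have h2 := h1.2 b w hb
    rw [hw, zero_smul, add_zero] at h2
    exact h2.inj hb

omit P in
/-- conjugation by the elements of `T` fixing `a` -/
theorem isE_conj {t : G} {s : Matrix.SpecialLinearGroup (Fin n) F} (htT : t ∈ T)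
    (hs : ∀ ω w, Pt Φ ω w → Pt Φ (t • ω) (s.1.mulVec w)) {μ : F} (hμ : s.1.mulVec v = μ • v)
    {f : Dual F (Fin n → F)} {g : G} (h : IsE T Φ v f g) :
    IsE T Φ v (μ • (f ∘ₗ s⁻¹.1.mulVecLin)) (t * g * t⁻¹) := by
  refine ⟨mul_mem (mul_mem htT h.1) (inv_mem htT), fun ω w hw => ?_⟩
  have h1 := hs _ _ (h.2 _ _ (rep_inv hs hw))
  rw [Matrix.mulVec_add, Matrix.mulVec_smul, hμ, mulVec_inv] at h1
  have h2 : w + f (s⁻¹.1.mulVec w) • μ • v = w + (μ • (f ∘ₗ s⁻¹.1.mulVecLin)) w • v := by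
    rw [LinearMap.smul_apply, LinearMap.comp_apply, Matrix.mulVecLin_apply, smul_smul, smul_eq_mul, mul_comm]
  rw [h2] at h1
  rw [mul_smul, mul_smul]
  exact h1

omit P in
theorem exists_mu {a : Ω} (ha : Pt Φ a v) {t : G} (hta : t • a = a) {s : Matrix.SpecialLinearGroup (Fin n) F}
    (hs : ∀ ω w, Pt Φ ω w → Pt Φ (t • ω) (s.1.mulVec w)) : ∃ μ : F, μ ≠ 0 ∧ s.1.mulVec v = μ • v := by
  have h1 := hs a v ha
  rw [hta] at h1
  exact ha.unique h1

theorem El_conj_T {a : Ω} (ha : Pt Φ a v) {t g : G} (htT : t ∈ T) (hta : t • a = a) (hg : g ∈ P.El v) :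
    t * g * t⁻¹ ∈ P.El v := by
  obtain ⟨s, hs⟩ := P.rep t htT
  obtain ⟨μ, hμ0, hμ⟩ := exists_mu ha hta hs
  obtain ⟨f, hf, h⟩ := hg
  refine ⟨_, ?_, isE_conj htT hs hμ h⟩
  rw [LinearMap.smul_apply, LinearMap.comp_apply, Matrix.mulVecLin_apply]
  have h1 : s⁻¹.1.mulVec v = μ⁻¹ • v := by
    have h2 := inv_mulVec s v
    rw [hμ, Matrix.mulVec_smul] at h2
    rw [← h2, smul_smul, inv_mul_cancel₀ hμ0, one_smul, h2]
  rw [h1, map_smul, hf, smul_zero, smul_zero]

/-- transitivity: from `f₀` to an independent `f` -/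
theorem exists_conj {a : Ω} (ha : Pt Φ a v) {f₀ f : Dual F (Fin n → F)} (hf₀ : f₀ v = 0) (hf : f v = 0) {u : Fin n → F}
    (hu : f u = f₀ u) (hu0 : f₀ u ≠ 0) {g₀ g : G} (h₀ : IsE T Φ v f₀ g₀) (h : IsE T Φ v f g) :
    ∃ t ∈ T, t • a = a ∧ t * g₀ * t⁻¹ = g := by
  let k : Dual F (Fin n → F) := (f₀ u)⁻¹ • (f₀ - f)
  have hk : ∀ w, k w = (f₀ u)⁻¹ * (f₀ w - f w) := fun w => rfl
  have hku : k u = 0 := by rw [hk, hu, sub_self, mul_zero]
  have hkv : k v = 0 := by rw [hk, hf₀, hf, sub_self, mul_zero]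
  obtain ⟨s, hs⟩ := exists_transv k u hku
  obtain ⟨t, htT, ht⟩ := P.real s
  have hsv : s.1.mulVec v = (1 : F) • v := by rw [hs, hkv, zero_smul, add_zero, one_smul]
  have hta : t • a = a := by
    have h1 := ht a v ha
    rw [hsv, one_smul] at h1
    exact h1.inj ha
  refine ⟨t, htT, hta, ?_⟩
  have h1 := isE_conj htT ht hsv h₀
  have h2 : (1 : F) • (f₀ ∘ₗ s⁻¹.1.mulVecLin) = f := by
    ext w
    have hsi : ∀ w, s⁻¹.1.mulVec w = w - k w • u := by
      intro w
      have h3 : s.1.mulVec (w - k w • u) = w := by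
        rw [hs, map_sub, map_smul, hku, smul_zero, sub_zero, sub_add_cancel]
      have h4 := inv_mulVec s (w - k w • u)
      rw [h3] at h4
      exact h4
    rw [one_smul]
    rw [LinearMap.comp_apply, LinearMap.comp_apply, LinearMap.comp_apply, Matrix.mulVecLin_apply, hsi, map_sub, map_smul, smul_eq_mul, hk]
    field_simp
    ring
  rw [h2] at h1
  exact P.isE_unique h1 h

/-- an element commuting with all the conjugates of a nontrivial elation commutes with all elations -/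
theorem comm_all (h3 : 3 ≤ n) {a : Ω} (ha : Pt Φ a v) {f₀ : Dual F (Fin n → F)} (hf₀ : f₀ v = 0) (hne : f₀ ≠ 0) {g₀ x : G}
    (h₀ : IsE T Φ v f₀ g₀) (hx : ∀ t ∈ T, t • a = a → x * (t * g₀ * t⁻¹) = t * g₀ * t⁻¹ * x) {g : G} (hg : g ∈ P.El v) :
    x * g = g * x := by
  obtain ⟨u₀, hu₀⟩ : ∃ u, f₀ u ≠ 0 := by
    by_contra hcon
    push Not at hcon
    exact hne (LinearMap.ext hcon)
  -- functionals with a common value
  have h1 : ∀ f : Dual F (Fin n → F), f v = 0 → (∃ u, f u = f₀ u ∧ f₀ u ≠ 0) → ∀ g, IsE T Φ v f g → x * g = g * x := by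
    rintro f hf ⟨u, hu, hu0⟩ g hg
    obtain ⟨t, ht, hta, rfl⟩ := P.exists_conj ha hf₀ hf hu hu0 h₀ hg
    exact hx t ht hta
  -- independent functionals
  have h2 : ∀ f : Dual F (Fin n → F), f v = 0 → (¬ ∃ c : F, f = c • f₀) → ∀ g, IsE T Φ v f g → x * g = g * x := by
    intro f hf hind
    refine h1 f hf ?_
    by_contra hcon
    push Not at hcon
    -- `ker (f - f₀) ≤ ker f₀`
    obtain ⟨u₁, hu₁⟩ : ∃ u, (f - f₀) u ≠ 0 := by
      by_contra hcon'
      push Not at hcon'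
      apply hind
      refine ⟨1, ?_⟩
      rw [one_smul]
      exact sub_eq_zero.1 (LinearMap.ext hcon')
    have h4 : ∀ w, f₀ w = (f₀ u₁ * ((f - f₀) u₁)⁻¹) * (f - f₀) w := by
      intro w
      have h5 : (f - f₀) (w - ((f - f₀) w * ((f - f₀) u₁)⁻¹) • u₁) = 0 := by
        rw [map_sub, map_smul, smul_eq_mul, inv_mul_cancel_right₀ hu₁, sub_self]
      have h6 := hcon _ (sub_eq_zero.1 h5)
      rw [map_sub, map_smul, smul_eq_mul, sub_eq_zero] at h6
      rw [h6]; ring
    set c := f₀ u₁ * ((f - f₀) u₁)⁻¹ with hc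
    have hc0 : c ≠ 0 := by
      intro h0
      have h5 := h4 u₀
      rw [h0, zero_mul] at h5
      exact hu₀ h5
    apply hind
    refine ⟨c⁻¹ + 1, ?_⟩
    ext w
    have h5 := h4 (Pi.single w 1)
    rw [LinearMap.sub_apply] at h5
    simp only [LinearMap.comp_apply, LinearMap.smul_apply, smul_eq_mul, LinearMap.coe_single]
    have h6 : c⁻¹ * f₀ (Pi.single w 1) = f (Pi.single w 1) - f₀ (Pi.single w 1) := by
      rw [inv_mul_eq_iff_eq_mul₀ hc0]
      exact h5
    linear_combination -h6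
  obtain ⟨f, hf, hfg⟩ := hg
  by_cases hind : ∃ c : F, f = c • f₀
  · obtain ⟨c, rfl⟩ := hind
    obtain ⟨y, hy⟩ := exists_notMem_span_pair h3 v u₀
    obtain ⟨f', hf'v, hf'u, hf'y⟩ := exists_dual_two hy
    have hi1 : ¬ ∃ c : F, f' = c • f₀ := by
      rintro ⟨d, rfl⟩
      rw [LinearMap.smul_apply, smul_eq_mul] at hf'u
      have hd := (mul_eq_zero.1 hf'u).resolve_right hu₀
      rw [hd, zero_smul] at hf'y
      exact hf'y rfl
    have hi2 : ¬ ∃ c' : F, c • f₀ + f' = c' • f₀ := by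
      rintro ⟨d, hd⟩
      refine hi1 ⟨d - c, LinearMap.ext fun w => ?_⟩
      have h5 := LinearMap.congr_fun hd w
      simp only [LinearMap.add_apply, LinearMap.smul_apply, smul_eq_mul] at h5 ⊢
      linear_combination h5
    obtain ⟨g', hg'⟩ := P.exists_isE hf'v
    have e1 := h2 f' hf'v hi1 g' hg'
    have e2 := h2 (c • f₀ + f') (by rw [LinearMap.add_apply, hf, hf'v, add_zero]) hi2 _ (isE_mul hf hfg hg')
    have e3 : x * g * g' = g * x * g' := by
      rw [mul_assoc, e2, mul_assoc, ← e1, ← mul_assoc]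
    exact mul_right_cancel e3
  · exact h2 f hf hind g hfg

/-- the canonical description of the group of elations -/
theorem El_iff (h3 : 3 ≤ n) {a : Ω} (ha : Pt Φ a v) {g : G} :
    g ∈ P.El v ↔ g ∈ T ∧ g • a = a ∧ ∀ t ∈ T, t • a = a → g * (t * g * t⁻¹) = t * g * t⁻¹ * g := by
  constructor
  · intro hg
    refine ⟨hg.choose_spec.2.1, P.El_fix ha hg, fun t ht hta => ?_⟩
    exact P.El_comm hg (P.El_conj_T ha ht hta hg)
  · rintro ⟨hgT, hga, hg⟩
    obtain ⟨s, hs⟩ := P.rep g hgT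
    obtain ⟨μ, hμ0, hμ⟩ := exists_mu ha hga hs
    -- commuting conjugates
    have hg2 : ∀ t ∈ T, t • a = a → ∀ r ∈ T, r • a = a →
        (r * g * r⁻¹) * (t * g * t⁻¹) = (t * g * t⁻¹) * (r * g * r⁻¹) := by
      intro t ht hta r hr hra
      have h1 := hg (r⁻¹ * t) (mul_mem (inv_mem hr) ht) (by rw [mul_smul, hta, inv_smul_eq_iff, hra])
      have h2 : (r * g * r⁻¹) * (t * g * t⁻¹) = r * (g * (r⁻¹ * t * g * (r⁻¹ * t)⁻¹)) * r⁻¹ := by group
      have h3 : (t * g * t⁻¹) * (r * g * r⁻¹) = r * (r⁻¹ * t * g * (r⁻¹ * t)⁻¹ * g) * r⁻¹ := by group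
      rw [h2, h3, h1]
    rcases lin_dich ha.ne hμ hμ0 with ⟨f, hf, h1⟩ | ⟨f, h, hf, hh, hne, h1⟩
    · refine ⟨f, hf, hgT, fun ω w hw => ?_⟩
      have h2 := (hs ω w hw)
      rw [h1] at h2
      have h4 := h2.smul (inv_ne_zero hμ0)
      rwa [smul_smul, inv_mul_cancel₀ hμ0, one_smul] at h4
    · obtain ⟨r, hr⟩ := P.exists_isE hf
      have hrE : r ∈ P.El v := ⟨f, hf, hr⟩
      have hra := P.El_fix ha hrE
      -- the commutator
      have hc : IsE T Φ v h (g * r * g⁻¹ * r⁻¹) := by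
        refine ⟨mul_mem (mul_mem (mul_mem hgT hr.1) (inv_mem hgT)) (inv_mem hr.1), fun ω w hw => ?_⟩
        have h4 := hs _ _ (hr.2 _ _ (rep_inv hs ((P.isE_inv hf hr).2 _ _ hw)))
        rw [LinearMap.neg_apply, neg_smul, ← sub_eq_add_neg, h1] at h4
        rw [mul_smul, mul_smul, mul_smul]
        exact h4
      have hcx : ∀ t ∈ T, t • a = a → g * (t * (g * r * g⁻¹ * r⁻¹) * t⁻¹) = t * (g * r * g⁻¹ * r⁻¹) * t⁻¹ * g := by
        intro t ht hta
        have h4 := hg t ht hta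
        have h5 := hg (t * r) (mul_mem ht hr.1) (by rw [mul_smul, hra, hta])
        have h6 : t * (g * r * g⁻¹ * r⁻¹) * t⁻¹ = (t * g * t⁻¹) * (t * r * g * (t * r)⁻¹)⁻¹ := by group
        have h7 : g * (t * r * g * (t * r)⁻¹)⁻¹ = (t * r * g * (t * r)⁻¹)⁻¹ * g := by
          rw [eq_inv_mul_iff_mul_eq, ← mul_assoc, ← h5, mul_inv_cancel_right]
        rw [h6, ← mul_assoc, h4, mul_assoc, h7]
        simp only [mul_assoc]
      have hall := fun {y : G} (hy : y ∈ P.El v) => P.comm_all h3 ha hh hne hc hcx hy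
      exfalso
      have h4 : g * r * g⁻¹ * r⁻¹ = 1 := by
        rw [hall hrE, mul_inv_cancel_right, mul_inv_cancel]
      rw [h4] at hc
      apply hne
      ext i
      obtain ⟨w, hw⟩ : ∃ w : Fin n → F, w = Pi.single i 1 := ⟨_, rfl⟩
      have hw0 : w ≠ 0 := by
        rw [hw]
        simp
      obtain ⟨ω, hω⟩ := exists_pt Φ hw0
      have h5 := hc.2 ω w hω
      rw [one_smul] at h5
      obtain ⟨k, -, hk⟩ := hω.unique h5
      -- `w + h w v = k w`
      have h6 : h w = 0 := by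
        by_contra h0
        have h7 : h w • v = (k - 1) • w := by rw [sub_smul, one_smul, ← hk, add_sub_cancel_left]
        have h8 : v = ((h w)⁻¹ * (k - 1)) • w := by rw [mul_smul, ← h7, smul_smul, inv_mul_cancel₀ h0, one_smul]
        have h9 : (h w)⁻¹ * (k - 1) * h w = 0 := by
          have := hh
          rw [h8, map_smul, smul_eq_mul] at this
          exact this
        have h10 : k - 1 = 0 := by
          rcases mul_eq_zero.1 h9 with h | h
          · exact (mul_eq_zero.1 h).resolve_left (inv_ne_zero h0)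
          · exact absurd h h0
        rw [h10, mul_zero, zero_smul] at h8
        exact ha.ne h8
      rw [hw] at h6
      simpa using h6

/-- the group of elations is normal in the stabilizer of its centre -/
theorem El_conj (h3 : 3 ≤ n) {a : Ω} (ha : Pt Φ a v) {x g : G} (hxa : x • a = a) (hg : g ∈ P.El v) :
    x * g * x⁻¹ ∈ P.El v := by
  have hxa' : x⁻¹ • a = a := by rw [inv_smul_eq_iff, hxa]
  rw [P.El_iff h3 ha] at hg ⊢
  obtain ⟨h1, h2, h4⟩ := hg
  refine ⟨P.normal x g h1, by rw [mul_smul, mul_smul, hxa', h2, hxa], fun t ht hta => ?_⟩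
  have h5 := h4 (x⁻¹ * t * x) (by
    have := P.normal x⁻¹ t ht
    rwa [inv_inv] at this) (by rw [mul_smul, mul_smul, hxa, hta, hxa'])
  have h6 : x * g * x⁻¹ * (t * (x * g * x⁻¹) * t⁻¹) = x * (g * (x⁻¹ * t * x * g * (x⁻¹ * t * x)⁻¹)) * x⁻¹ := by group
  have h7 : t * (x * g * x⁻¹) * t⁻¹ * (x * g * x⁻¹) = x * (x⁻¹ * t * x * g * (x⁻¹ * t * x)⁻¹ * g) * x⁻¹ := by group
  rw [h6, h7, h5]

/-- `p'`-elements of the stabilizer centralizing the group of elations are trivial -/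
theorem El_cent {p : ℕ} [CharP F p] {a : Ω} (ha : Pt Φ a v) {x : G} (hxa : x • a = a)
    (hx : ∀ g ∈ P.El v, x * g = g * x) {k : ℕ} (hk : x ^ k = 1) (hkp : Nat.Coprime k p) : x = 1 := by
  apply P.faithful
  intro b
  by_cases hba : b = a
  · rw [hba, hxa]
  obtain ⟨w, hw⟩ := pt_exists Φ b
  obtain ⟨w', hw'⟩ := pt_exists Φ (x • b)
  have hwv : w ∉ Submodule.span F {v} := by
    intro h
    obtain ⟨c, rfl⟩ := Submodule.mem_span_singleton.1 h
    have hc : c ≠ 0 := by
      rintro rfl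
      exact hw.ne (zero_smul _ _)
    exact hba ((hw.inj (ha.smul hc)))
  have hxb : x • b ≠ a := fun h => hba (smul_left_cancel x (h.trans hxa.symm))
  have hmem : w' ∈ Submodule.span F ({v, w} : Set (Fin n → F)) := by
    by_contra hno
    obtain ⟨f, hfv, hfw, hfw'⟩ := exists_dual_two hno
    obtain ⟨g, hg⟩ := P.exists_isE hfv
    have hgE : g ∈ P.El v := ⟨f, hfv, hg⟩
    have hgb : g • b = b := by
      have h1 := hg.2 b w hw
      rw [hfw, zero_smul, add_zero] at h1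
      exact h1.inj hw
    have hgxb : g • x • b = x • b := by
      rw [smul_smul, ← hx g hgE, mul_smul, hgb]
    have h1 := hg.2 _ _ hw'
    rw [hgxb] at h1
    obtain ⟨c, hc, hc'⟩ := hw'.unique h1
    have h2 : f w' • v = (c - 1) • w' := by rw [sub_smul, one_smul, ← hc', add_sub_cancel_left]
    by_cases hc1 : c - 1 = 0
    · rw [hc1, zero_smul] at h2
      exact (smul_ne_zero hfw' ha.ne) h2
    · apply hno
      have h5 : w' = ((c - 1)⁻¹ * f w') • v := by
        rw [mul_smul, h2, smul_smul, inv_mul_cancel₀ hc1, one_smul]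
      rw [h5]
      exact Submodule.smul_mem _ _ (Submodule.subset_span (by simp))
  obtain ⟨β, α, hαβ⟩ := Submodule.mem_span_pair.1 hmem
  have hα : α ≠ 0 := by
    rintro rfl
    rw [zero_smul, add_zero] at hαβ
    have hβ : β ≠ 0 := by
      rintro rfl
      rw [zero_smul] at hαβ
      exact hw'.ne hαβ.symm
    rw [← hαβ] at hw'
    exact hxb (hw'.inj (ha.smul hβ))
  obtain ⟨f, hfv, hfw⟩ := exists_dual_one hwv (α⁻¹ * β)
  obtain ⟨g, hg⟩ := P.exists_isE hfv
  have hgE : g ∈ P.El v := ⟨f, hfv, hg⟩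
  have hgb : x • b = g • b := by
    have h1 := hg.2 b w hw
    rw [hfw] at h1
    have h2 := hw'.smul (inv_ne_zero hα)
    rw [← hαβ, smul_add, smul_smul, smul_smul, inv_mul_cancel₀ hα, one_smul, add_comm] at h2
    exact h2.inj h1
  have hpow : ∀ j : ℕ, x ^ j • b = g ^ j • b := by
    intro j
    induction j with
    | zero => rw [pow_zero, pow_zero]
    | succ j ih =>
      have hcomm : x ^ j * g = g * x ^ j := (show Commute x g from hx g hgE).pow_left j
      rw [pow_succ, mul_smul, hgb, smul_smul, hcomm, mul_smul, ih, smul_smul, ← pow_succ']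
  have h1 : g ^ k • b = b := by rw [← hpow, hk, one_smul]
  have h2 : g ^ p • b = b := by rw [P.El_exp hgE, one_smul]
  have h3 : g ∈ MulAction.stabilizer G b := by
    have e1 : g ^ (k : ℤ) ∈ MulAction.stabilizer G b := by rw [zpow_natCast]; exact h1
    have e2 : g ^ (p : ℤ) ∈ MulAction.stabilizer G b := by rw [zpow_natCast]; exact h2
    have e3 : (1 : ℤ) = k * Nat.gcdA k p + p * Nat.gcdB k p := by
      have := Nat.gcd_eq_gcd_ab k p
      rw [hkp] at this
      exact_mod_cast this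
    have e4 : g ^ (1 : ℤ) ∈ MulAction.stabilizer G b := by
      rw [e3, zpow_add, zpow_mul, zpow_mul]
      exact mul_mem (zpow_mem e1 _) (zpow_mem e2 _)
    rwa [zpow_one] at e4
  rw [hgb]
  exact h3

end PA

end Cfsg.Agent.H270.Tits.Elat
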