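import Cfsg.Agent.H270.Tits.PslSemi
import Cfsg.Agent.H270.Tits.PslRows

/-!
# S3414, case (B): two small pieces (helper270)

* `no_210` : there is no 2-transitive group of order 210 and degree 7;
* `sub_seven` : the 2-transitive subgroups of the groups with socle `PSL_7(2)`, degree 127, contain the socle.
-/

set_option autoImplicit false

namespace Cfsg.Agent.H270.Tits

open Subgroup Cfsg.Agent.H873.Tits Cfsg.Agent.H384.TwoTrans

universe v

/-- there is no 2-transitive group of order 210 and degree 7 -/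
theorem no_210 {Ω : Type v} [Finite Ω] (L : Subgroup (Equiv.Perm Ω)) (h2 : TwoTr L) (h7 : Nat.card Ω = 7)
    (h : Nat.card L = 210) : False := by
  rcases reduction (twoTr_iff h2) (by omega) with ⟨N, hN, hN1, hNc, -, htr, hst⟩ | ⟨T, A⟩
  · have h3 := prime_aff (by norm_num : Nat.Prime 7) h7 h2 N hN hNc htr hst
    omega
  · have hs := A.simple
    have hd : Nat.card T ∣ 210 := h ▸ card_subgroup_dvd_card T
    have hsq : Squarefree 210 := by decide +kernel
    have hsq' : Squarefree (Nat.card T) := hsq.squarefree_of_dvd hd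
    have hz : IsZGroup T := IsZGroup.of_squarefree hsq'
    have hsol : Group.IsSolvable T := inferInstance
    have hc := (IsSimpleGroup.comm_iff_isSolvable (G := T)).2 hsol
    exact A.nonab ⟨⟨fun a b => hc a b⟩⟩

/-- the 2-transitive subgroups of the groups with socle `PSL_7(2)`, degree 127, contain the socle -/
theorem sub_seven {Ω : Type v} [Finite Ω] (L L' : Subgroup (Equiv.Perm Ω)) (h2 : TwoTr L) (h2' : TwoTr L')
    (hL : L' ≤ L) (h : PSLType L 2 7 1) : ∃ X : Subgroup (Equiv.Perm Ω), X ≠ ⊥ ∧ X ≤ L' ∧ (X.subgroupOf L).Normal := by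
  have hc : Nat.card Ω * (2 ^ 1 - 1) = (2 ^ 1) ^ 7 - 1 := h.2.2.2.1
  obtain ⟨T, F, _, _, A, hF, ⟨e⟩⟩ := as_of h2 h
  have := A.normal
  have hs := A.simple
  have h1 := (row127 A hL h2' (by omega) (by rw [hF]; norm_num) e).1
  refine ⟨T.map L.subtype, fun hb => ?_, h1, normal_map⟩
  rw [map_eq_bot_iff_of_injective _ (subtype_injective L)] at hb
  have hnt : Nontrivial T := hs.toNontrivial
  exact (Subgroup.nontrivial_iff_ne_bot T).1 hnt hb

end Cfsg.Agent.H270.Tits
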