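import Cfsg.Agent.H270.Tits.OrdB
import Cfsg.Agent.H873.Tits.Bridge
import Cfsg.Agent.H263.TW.Pol

/-!
# S3414 [E2]: `PSL_7(2)` does not occur (helper270)

`st_e2 : StKeyAff → StStar → StE2`.
-/

set_option autoImplicit false

namespace Cfsg.Agent.H270.Tits

open Subgroup Cfsg.Agent.H873.Tits Cfsg.Agent.H263.TW

universe u v

/-! ## Arithmetic -/

theorem arith4 {k : ℕ} (h1 : 126 ≤ (2 ^ k) ^ 2) (h2 : 2 ^ k ≤ 126 ^ 2)
    (h3 : (126 + 2 ^ k) ∣ 2 * 126 * 2 ^ k * (1 + 126) * (1 + 2 ^ k)) : 2 ^ k = 128 := by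
  have h4 : k < 14 := by
    by_contra hcon
    push Not at hcon
    have : 2 ^ 14 ≤ 2 ^ k := Nat.pow_le_pow_right (by norm_num) hcon
    norm_num at this h2
    omega
  have key : ∀ k < 14, 126 ≤ (2 ^ k) ^ 2 → (126 + 2 ^ k) ∣ 2 * 126 * 2 ^ k * (1 + 126) * (1 + 2 ^ k) → 2 ^ k = 128 := by
    decide +kernel
  exact key k h4 h1 h3

theorem arith7 {k g c : ℕ} (hc : ¬ 7 ∣ c) (h : 7 * c * 2 ^ k = g ^ 2) : False := by
  have h7 : Nat.Prime 7 := by norm_num
  have h1 : 7 ∣ g ^ 2 := h ▸ ((Dvd.intro _ rfl : 7 ∣ 7 * c).mul_right _)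
  obtain ⟨e, rfl⟩ := h7.dvd_of_dvd_pow h1
  have h2 : 7 * (c * 2 ^ k) = 7 * (7 * e ^ 2) := by
    calc 7 * (c * 2 ^ k) = 7 * c * 2 ^ k := by ring
      _ = (7 * e) ^ 2 := h
      _ = 7 * (7 * e ^ 2) := by ring
  have h3 := Nat.eq_of_mul_eq_mul_left (by norm_num) h2
  have h4 : 7 ∣ c * 2 ^ k := h3 ▸ Dvd.intro _ rfl
  rcases h7.dvd_mul.1 h4 with h5 | h5
  · exact hc h5
  · have := h7.dvd_of_dvd_pow h5
    norm_num at this

theorem num {G : Type u} [Group G] {V : Type v} [MulAction G V] {P : Pol G V} (N : Num P) {b : Bool} {k : ℕ}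
    (hs : P.q b = 126) (ht : P.q (!b) = 2 ^ k) : P.n = 4 ∧ 2 ^ k = 128 := by
  have e1 : P.q true * P.q false = 126 * 2 ^ k := by
    cases b
    · rw [Bool.not_false] at ht; rw [hs, ht, mul_comm]
    · rw [Bool.not_true] at ht; rw [hs, ht]
  have e2 : P.q true + P.q false = 126 + 2 ^ k := by
    cases b
    · rw [Bool.not_false] at ht; rw [hs, ht, add_comm]
    · rw [Bool.not_true] at ht; rw [hs, ht]
  have e3 : (1 + P.q true) * (1 + P.q false) = (1 + 126) * (1 + 2 ^ k) := by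
    cases b
    · rw [Bool.not_false] at ht; rw [hs, ht, mul_comm]
    · rw [Bool.not_true] at ht; rw [hs, ht]
  rcases P.hn with h | h | h
  · refine ⟨h, ?_⟩
    have h1 := N.hig48 (Or.inl h) b
    have h2 := N.hig48 (Or.inl h) (!b)
    rw [Bool.not_not] at h2
    rw [hs, ht] at h1 h2
    have h3 := N.fh4 h
    have e4 : 2 * P.q true * P.q false * (1 + P.q true) * (1 + P.q false) =
        2 * 126 * 2 ^ k * (1 + 126) * (1 + 2 ^ k) := by
      calc 2 * P.q true * P.q false * (1 + P.q true) * (1 + P.q false)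
          = 2 * (P.q true * P.q false) * ((1 + P.q true) * (1 + P.q false)) := by ring
        _ = 2 * (126 * 2 ^ k) * ((1 + 126) * (1 + 2 ^ k)) := by rw [e1, e3]
        _ = 2 * 126 * 2 ^ k * (1 + 126) * (1 + 2 ^ k) := by ring
    rw [e2, e4] at h3
    exact arith4 h1 h2 h3
  · exfalso
    obtain ⟨g, hg, -⟩ := N.fh6 h
    rw [e1] at hg
    exact arith7 (k := k) (g := g) (c := 18) (by norm_num) (by rw [← hg])
  · exfalso
    obtain ⟨g, hg, -⟩ := N.fh8 h
    rw [mul_assoc, e1] at hg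
    exact arith7 (k := k) (g := g) (c := 36) (by norm_num) (by rw [← hg]; ring)

/-! ## Orbits -/

section

variable {G : Type u} [Group G] [Finite G] {V : Type v} [Finite V] [MulAction G V] {P : Pol G V}

omit [Finite G] [Finite V] in
theorem ncard_nb {x y : V} (hxy : P.adj x y) : ({w | P.adj x w ∧ w ≠ y} : Set V).ncard = P.q (P.tp x) := by
  have h1 : ({w | P.adj x w ∧ w ≠ y} : Set V) = {w | P.adj x w} \ {y} := by
    ext w; simp
  rw [h1, Set.ncard_sdiff_singleton_of_mem (show y ∈ {w | P.adj x w} from hxy), ← Nat.card_coe_set_eq]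
  have := P.card_nb x
  have h2 : Nat.card ↑{w | P.adj x w} = P.q (P.tp x) + 1 := this
  rw [h2, Nat.add_sub_cancel]

omit [Finite G] in
theorem ncard_orbit_dvd (F : Facts P) {x y w : V} (hxy : P.adj x y) (N : Subgroup G) (hN : N ≤ P.S x ⊓ P.S y)
    (hN' : P.S x ⊓ P.S y ≤ normalizer (N : Set G)) (hw : P.adj x w) (hwy : w ≠ y) :
    (MulAction.orbit N w).ncard ∣ P.q (P.tp x) := by
  rw [← ncard_nb hxy]
  refine Cfsg.Agent.PermutationGroups.TwoTransitiveNormal.dvd_ncard_of_index_stabilizer_eq (G := N) (Set.toFinite _) ?_ ?_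
  · rintro ⟨g, hg⟩ v ⟨hv, hvy⟩
    obtain ⟨h1, h2⟩ := hN hg
    have h1' : g • x = x := h1
    have h2' : g • y = y := h2
    refine ⟨?_, fun h => hvy ?_⟩
    · have := P.smul_adj g hv
      rwa [h1'] at this
    · have h3 : g • v = g • y := by rw [h2']; exact h
      exact smul_left_cancel g h3
  · rintro v ⟨hv, hvy⟩
    rw [MulAction.index_stabilizer]
    obtain ⟨g, hg, h1, h2⟩ := F.two_trans hxy hw (Ne.symm hwy) hxy hv (Ne.symm hvy)
    have hgN : g ∈ normalizer (N : Set G) := hN' ⟨hg, h1⟩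
    have h3 : MulAction.orbit N v = (fun z => g • z) '' MulAction.orbit N w := by
      ext z
      constructor
      · rintro ⟨⟨a, ha⟩, rfl⟩
        refine ⟨(g⁻¹ * a * g) • w, ⟨⟨g⁻¹ * a * g, conj_mem' hgN ha⟩, rfl⟩, ?_⟩
        change g • (g⁻¹ * a * g) • w = a • v
        rw [← h2, smul_smul, smul_smul]
        congr 1
        group
      · rintro ⟨_, ⟨⟨a, ha⟩, rfl⟩, rfl⟩
        refine ⟨⟨g * a * g⁻¹, Cfsg.Agent.H263.TW.conj_mem hgN ha⟩, ?_⟩
        change (g * a * g⁻¹) • v = g • a • w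
        rw [← h2, smul_smul, smul_smul]
        congr 1
        group
    rw [h3, Set.ncard_image_of_injective _ (MulAction.injective g)]

theorem ncard_orbit_two (F : Facts P) {x y w : V} (hxy : P.adj x y) (hq : P.q (P.tp x) = 126) (Q : Subgroup G) (hQ : Q ≤ P.K y)
    (hQn : P.S y ≤ normalizer (Q : Set G)) (hQp : IsPGroup 2 Q) (hw : P.adj x w) (hwy : w ≠ y) :
    (MulAction.orbit Q w).ncard ≤ 2 := by
  have : Fact (Nat.Prime 2) := ⟨Nat.prime_two⟩
  have hKx : P.K y ≤ P.S x := fun g hg => hg.2 x (P.symm hxy)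
  have h1 := ncard_orbit_dvd F hxy Q (hQ.trans (le_inf hKx (P.K_le_S y))) (inf_le_right.trans hQn) hw hwy
  rw [hq] at h1
  obtain ⟨n, hn⟩ := IsPGroup.iff_card.1 hQp
  have h2 : (MulAction.orbit Q w).ncard ∣ 2 ^ n := by
    rw [← hn, ← MulAction.index_stabilizer]
    exact index_dvd_card _
  obtain ⟨j, hj, hj'⟩ := (Nat.dvd_prime_pow Nat.prime_two).1 h2
  rw [hj'] at h1 ⊢
  rcases Nat.lt_or_ge j 2 with h3 | h3
  · interval_cases j <;> norm_num
  · exfalso
    have h4 : 2 ^ 2 ∣ 126 := (pow_dvd_pow 2 h3).trans h1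
    norm_num at h4

/-- the stabilizer in `K y` of a vertex at distance two is a `2`-group -/
theorem pgroup_KS (hStar : StStar.{u, v}) (F : Facts P) (hA : CaseA P 2) {x y w : V} (hxy : P.adj x y)
    (hq : P.q (P.tp x) = 126) (hw : P.adj x w) (hwy : w ≠ y) : IsPGroup 2 ↥(P.K y ⊓ P.S w) := by
  have hSK := Cfsg.Agent.H263.TW.S_le_normalizer_K P y
  set Q := cp 2 (P.K y) with hQdef
  have hQ : Q ≤ P.K y := cp_le _ _
  have hQn : P.S y ≤ normalizer (Q : Set G) := hSK.trans (normalizer_le_cp 2 (P.K y))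
  have hQp : IsPGroup 2 Q := cp_pGroup _ _
  have hQn' : (Q.subgroupOf (P.S y)).Normal := by
    constructor
    intro n hn g
    exact Cfsg.Agent.H263.TW.conj_mem (K := Q) (hQn g.2) hn
  have hmax : ∀ Q' : Subgroup G, Q' ≤ P.K y → (Q'.subgroupOf (P.S y)).Normal → IsPGroup 2 ↥Q' → Q' ≤ Q := by
    intro Q' h1 h2 h3
    refine le_cp h1 h3 ?_
    refine (P.K_le_S y).trans ?_
    intro g hg
    have h4 : ∀ g ∈ P.S y, ∀ a ∈ Q', g * a * g⁻¹ ∈ Q' := by
      intro g hg a ha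
      exact h2.conj_mem ⟨a, P.K_le_S y (h1 ha)⟩ ha ⟨g, hg⟩
    rw [mem_normalizer_iff]
    intro a
    refine ⟨fun ha => h4 g hg a ha, fun ha => ?_⟩
    have h5 := h4 g⁻¹ (inv_mem hg) _ ha
    have h6 : g⁻¹ * (g * a * g⁻¹) * g⁻¹⁻¹ = a := by group
    rwa [h6] at h5
  have hE := hA.pgroup hxy
  have key : ∀ g ∈ P.K y ⊓ P.S w, g ^ 2 ∈ P.K x ⊓ P.K y := by
    rintro g ⟨hg, hgw⟩
    have hgx : g • x = x := hg.2 x (P.symm hxy)
    have hgy : g • y = y := hg.1
    refine ⟨⟨by rw [pow_two, mul_smul, hgx, hgx], fun z hz => ?_⟩, pow_mem hg 2⟩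
    by_cases hzy : z = y
    · rw [hzy, pow_two, mul_smul, hgy, hgy]
    obtain ⟨b, hb, hgb⟩ := hStar P F hA hxy hw hwy hz hzy Q hQ hQn' hQp hmax g hg
      ⟨1, one_mem _, by rw [one_smul]; exact hgw⟩
    by_contra hne
    have h2 := ncard_orbit_two F hxy hq Q hQ hQn hQp hz hzy
    have h3 : 2 < (MulAction.orbit Q z).ncard := by
      rw [Set.two_lt_ncard_iff]
      refine ⟨z, g • z, g • g • z, MulAction.mem_orbit_self z, ⟨⟨b, hb⟩, hgb.symm⟩, ?_, ?_, ?_, ?_⟩
      · refine ⟨⟨g * b * g⁻¹ * b, mul_mem (Cfsg.Agent.H263.TW.conj_mem (hQn (P.K_le_S y hg)) hb) hb⟩, ?_⟩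
        change (g * b * g⁻¹ * b) • z = g • g • z
        rw [mul_smul, mul_smul, mul_smul, ← hgb, inv_smul_smul, ← hgb]
      · intro h
        apply hne
        rw [pow_two, mul_smul, ← h, ← h]
      · intro h
        apply hne
        rw [pow_two, mul_smul, ← h]
      · intro h
        apply hne
        have h5 : z = g • z := smul_left_cancel g h
        rw [pow_two, mul_smul, ← h5, ← h5]
    omega
  intro g
  obtain ⟨j, hj⟩ := hE ⟨(g : G) ^ 2, key g g.2⟩
  refine ⟨j + 1, ?_⟩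
  have h1 : ((g : G) ^ 2) ^ 2 ^ j = 1 := congrArg Subtype.val hj
  apply Subtype.ext
  change (g : G) ^ 2 ^ (j + 1) = 1
  rw [pow_succ, mul_comm, pow_mul]
  exact h1

theorem card_K_dvd (hStar : StStar.{u, v}) (F : Facts P) (hA : CaseA P 2) {x y : V} (hxy : P.adj x y)
    (hq : P.q (P.tp x) = 126) : ∃ e, Nat.card ↥(P.K y) ∣ 2 ^ e * 126 := by
  have : Fact (Nat.Prime 2) := ⟨Nat.prime_two⟩
  obtain ⟨w, hw, hwy⟩ : ∃ w, P.adj x w ∧ w ≠ y := by
    have h1 := ncard_nb hxy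
    rw [hq] at h1
    have h2 : ({w | P.adj x w ∧ w ≠ y} : Set V).Nonempty := by
      rw [Set.nonempty_iff_ne_empty]
      intro h
      rw [h, Set.ncard_empty] at h1
      omega
    exact h2
  obtain ⟨e, he⟩ := IsPGroup.iff_card.1 (pgroup_KS hStar F hA hxy hq hw hwy)
  refine ⟨e, ?_⟩
  have h1 := ((P.K y ⊓ P.S w).subgroupOf (P.K y)).card_mul_index
  rw [card_subgroupOf', inf_of_le_left inf_le_left, he] at h1
  rw [← h1]
  have h2 := F.relIndex_dvd (x := y) (y := x) (w := w) (P.symm hxy) (P.symm hw) (Ne.symm hwy)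
  rw [hq] at h2
  exact mul_dvd_mul_left _ h2

end

/-! ## The theorem -/

theorem st_e2 (hKA : StKeyAff.{u, v}) (hStar : StStar.{u, v}) : StE2.{u, v} := by
  intro G _ _ V _ _ P F N hA x y hxy hL hy
  obtain ⟨h127, -⟩ := card_L (P.L x) hL
  have hq : P.q (P.tp x) = 126 := by
    have := P.card_nb x
    omega
  rcases hy with hy | ⟨k, hk⟩
  · obtain ⟨x', hx'⟩ := F.exists_opp x
    have h3 := hKA P F hA hxy hx' (r := 3) Nat.prime_three (by norm_num) hy (Or.inl (by norm_num))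
    have h7 := hKA P F hA hxy hx' (r := 7) (by norm_num) (by norm_num) hy (Or.inl (by norm_num))
    rw [hq] at h3 h7
    have e3 : 2 ≤ (126 : ℕ).factorization 3 :=
      (Nat.prime_three.pow_dvd_iff_le_factorization (by norm_num)).1 (by norm_num)
    have e7 : 1 ≤ (126 : ℕ).factorization 7 :=
      ((by norm_num : Nat.Prime 7).pow_dvd_iff_le_factorization (by norm_num)).1 (by norm_num)
    exact no_idx (P.L x) (P.L' x x') hL L'_le_L (twoTr_L' F hx') (e3.trans h3) (e7.trans h7)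
  · have htp : P.tp y = !P.tp x := P.tp_adj hxy
    rw [htp] at hk
    obtain ⟨hn, h128⟩ := num N hq hk
    rw [h128] at hk
    obtain ⟨y', hy'⟩ := F.exists_opp y
    have hc := F.count_opp hy'
    rw [hn, htp, Bool.not_not, hq, hk] at hc
    norm_num at hc
    obtain ⟨c, hcK⟩ : Nat.card ↥(P.K y ⊓ P.S y') ∣ Nat.card ↥(P.K y) := card_dvd_of_le inf_le_left
    have hκ : 0 < Nat.card ↥(P.K y ⊓ P.S y') := Nat.card_pos
    have h1 : P.idx y y' * c = 128 * 126 ^ 2 := by
      rw [hcK] at hc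
      apply Nat.eq_of_mul_eq_mul_right hκ
      calc P.idx y y' * c * Nat.card ↥(P.K y ⊓ P.S y') = P.idx y y' * (Nat.card ↥(P.K y ⊓ P.S y') * c) := by ring
        _ = _ := hc
        _ = _ := by norm_num
    have hc0 : c ≠ 0 := by
      rintro rfl
      norm_num at h1
    have hi0 : P.idx y y' ≠ 0 := by
      intro h
      rw [h] at h1
      norm_num at h1
    obtain ⟨e, he⟩ := card_K_dvd hStar F hA hxy hq
    have h2 : c ∣ 2 ^ e * 126 := (Dvd.intro_left _ hcK.symm).trans he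
    have h3 : c.factorization 3 ≤ 2 := by
      by_contra hcon
      push Not at hcon
      have h4 : 3 ^ 3 ∣ 2 ^ e * 126 := ((Nat.prime_three.pow_dvd_iff_le_factorization hc0).2 hcon).trans h2
      have h5 : Nat.Coprime (3 ^ 3) (2 ^ e) := by
        apply Nat.Coprime.pow
        norm_num
      have := h5.dvd_of_dvd_mul_left h4
      norm_num at this
    have h4 : (P.idx y y').factorization 3 + c.factorization 3 = (128 * 126 ^ 2).factorization 3 := by
      rw [← h1, Nat.factorization_mul hi0 hc0, Finsupp.add_apply]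
    have h5 : 4 ≤ (128 * 126 ^ 2).factorization 3 :=
      (Nat.prime_three.pow_dvd_iff_le_factorization (by norm_num)).1 (by norm_num)
    have h6 : P.idx y y' ≤ 128 * 126 ^ 2 := by
      rw [← h1]
      exact Nat.le_mul_of_pos_right _ (Nat.pos_of_ne_zero hc0)
    have hΩ := P.card_nb y
    rw [htp, hk] at hΩ
    exact no_idx129 (twoTr_L F y) L'_le_L (twoTr_L' F hy') hΩ (by
      change 2 ≤ (P.idx y y').factorization 3
      omega) h6

end Cfsg.Agent.H270.Tits
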