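import Mathlib

/-!
# S3414 [E2]: Sylow's theorem in groups of prime degree
-/

set_option autoImplicit false

namespace Cfsg.Agent.H270.Tits

open Subgroup

universe u

theorem card_subgroupOf' {Γ : Type u} [Group Γ] (H K : Subgroup Γ) :
    Nat.card ↥(H.subgroupOf K) = Nat.card ↥(H ⊓ K : Subgroup Γ) := by
  rw [← inf_subgroupOf_right]
  exact Nat.card_congr (subgroupOfEquivOfLe inf_le_right).toEquiv

/-- the normalizer of a self-centralizing subgroup of prime order `p` has order dividing `p (p - 1)` -/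
theorem card_norm {Γ : Type u} [Group Γ] [Finite Γ] {p : ℕ} (hp : p.Prime) (S : Subgroup Γ) (hS : Nat.card S = p)
    (hC : centralizer (S : Set Γ) ≤ S) : Nat.card ↥(normalizer (S : Set Γ)) ∣ p * (p - 1) := by
  have : Fact p.Prime := ⟨hp⟩
  have hcyc : IsCyclic S := isCyclic_of_prime_card hS
  have h1 := S.normalizerMonoidHom.ker.card_mul_index
  rw [index_ker] at h1
  have h2 : Nat.card S.normalizerMonoidHom.ker ∣ p := by
    rw [normalizerMonoidHom_ker, card_subgroupOf', ← hS]
    exact card_dvd_of_le (inf_le_left.trans hC)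
  have h3 : Nat.card S.normalizerMonoidHom.range ∣ p - 1 := by
    have := card_subgroup_dvd_card S.normalizerMonoidHom.range
    rwa [IsCyclic.card_mulAut, hS, Nat.totient_prime hp] at this
  rw [← h1]
  exact mul_dvd_mul h2 h3

/-- Sylow's theorem -/
theorem sylow_count {Γ : Type u} [Group Γ] [Finite Γ] {p : ℕ} (hp : p.Prime) (S A : Subgroup Γ) (hS : Nat.card S = p)
    (hSA : S ≤ A) {a : ℕ} (ha : Nat.card A = p * a) (hpa : ¬ p ∣ a) :
    ∃ m, Nat.card ↥(normalizer (S : Set Γ) ⊓ A : Subgroup Γ) = p * m ∧ a ≡ m [MOD p] := by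
  have : Fact p.Prime := ⟨hp⟩
  have h0 : a ≠ 0 := fun h => hpa (h ▸ dvd_zero _)
  have h1 : Nat.card (S.subgroupOf A) = p := by
    rw [card_subgroupOf', inf_of_le_left hSA, hS]
  have h2 : (Nat.card A).factorization p = 1 := by
    rw [ha, Nat.factorization_mul hp.ne_zero h0, Finsupp.add_apply, hp.factorization_self,
      Nat.factorization_eq_zero_of_not_dvd hpa]
  set P : Sylow p A := Sylow.ofCard (S.subgroupOf A) (by rw [h1, h2, pow_one]) with hP
  have h3 : (P : Subgroup A) = S.subgroupOf A := rfl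
  have h4 := P.card_eq_index_normalizer
  have h5 := card_sylow_modEq_one p A
  have h3' : normalizer (P : Set A) = (normalizer (S : Set Γ)).subgroupOf A := by
    rw [subgroupOf_normalizer_eq hSA]
    rfl
  rw [h4, h3'] at h5
  have h6 := ((normalizer (S : Set Γ)).subgroupOf A).card_mul_index
  rw [card_subgroupOf', ha] at h6
  obtain ⟨m, hm⟩ : p ∣ Nat.card ↥(normalizer (S : Set Γ) ⊓ A : Subgroup Γ) := by
    rw [← hS]
    exact card_dvd_of_le (le_inf le_normalizer hSA)
  refine ⟨m, hm, ?_⟩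
  rw [hm, mul_assoc] at h6
  have h7 := Nat.eq_of_mul_eq_mul_left hp.pos h6
  rw [← h7]
  have h8 := Nat.ModEq.mul_left m h5
  rwa [mul_one] at h8

/-- `A ≤ B` transitive of prime degree `p` : `|A| = p a`, `|B| = p b`, `a ≡ m`, `b ≡ n (mod p)`, `m ∣ n ∣ p - 1` -/
theorem prime_degree {Ω : Type u} [Finite Ω] {p : ℕ} (hp : p.Prime) (hΩ : Nat.card Ω = p)
    (A B : Subgroup (Equiv.Perm Ω)) (hAB : A ≤ B) (hA : MulAction.IsPretransitive A Ω) :
    ∃ a b m n : ℕ, Nat.card A = p * a ∧ Nat.card B = p * b ∧ a ≡ m [MOD p] ∧ b ≡ n [MOD p] ∧ m ∣ n ∧ n ∣ p - 1 := by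
  classical
  have : Fact p.Prime := ⟨hp⟩
  have hne : Nonempty Ω := by
    rw [← Finite.card_pos_iff, hΩ]; exact hp.pos
  obtain ⟨ω⟩ := hne
  have hA1 : p ∣ Nat.card A := by
    have := (MulAction.stabilizer A ω).index_dvd_card
    rwa [MulAction.index_stabilizer_of_transitive, hΩ] at this
  obtain ⟨a, ha⟩ := hA1
  obtain ⟨b, hb⟩ : p ∣ Nat.card B := (Dvd.intro _ ha.symm).trans (card_dvd_of_le hAB)
  have hsq : ¬ p ∣ b := by
    rintro ⟨c, rfl⟩
    have h1 : p * p ∣ (p).factorial := by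
      have : Nat.card B ∣ Nat.card (Equiv.Perm Ω) := card_subgroup_dvd_card B
      rw [Nat.card_perm, hΩ, hb] at this
      exact (Dvd.intro c (by ring)).trans this
    obtain ⟨q, hq⟩ : ∃ q, p = q + 1 := ⟨p - 1, by have := hp.pos; omega⟩
    have h2 : p ∣ q.factorial := by
      have h3 : p.factorial = p * q.factorial := by
        rw [hq, Nat.factorial_succ]
      rw [h3] at h1
      exact Nat.dvd_of_mul_dvd_mul_left hp.pos h1
    have := (hp.dvd_factorial).1 h2
    omega
  have hsqa : ¬ p ∣ a := by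
    intro h
    apply hsq
    have h1 : p * a ∣ p * b := by
      rw [← ha, ← hb]; exact card_dvd_of_le hAB
    exact h.trans (Nat.dvd_of_mul_dvd_mul_left hp.pos h1)
  -- a subgroup of order `p`
  obtain ⟨s, hs⟩ := exists_prime_orderOf_dvd_card' (G := A) p (Dvd.intro _ ha.symm)
  set S : Subgroup (Equiv.Perm Ω) := zpowers (s : Equiv.Perm Ω) with hSdef
  have hScard : Nat.card S = p := by
    rw [hSdef, Nat.card_zpowers, orderOf_coe, hs]
  have hSA : S ≤ A := by
    rw [hSdef, zpowers_le]; exact s.2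
  have hsne : (s : Equiv.Perm Ω) ≠ 1 := by
    intro h
    have : s = 1 := Subtype.ext h
    rw [this, orderOf_one] at hs
    exact hp.one_lt.ne hs
  obtain ⟨α, hα⟩ : ∃ α : Ω, (s : Equiv.Perm Ω) α ≠ α := by
    by_contra hcon
    push Not at hcon
    exact hsne (Equiv.ext hcon)
  have htr : ∀ β : Ω, ∃ g ∈ S, g α = β := by
    have h1 : Nat.card (MulAction.orbit S α) ∣ p := by
      rw [← hScard]
      have := (MulAction.stabilizer S α).index_dvd_card
      rwa [MulAction.index_stabilizer, ← Nat.card_coe_set_eq] at this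
    have h2 : Nat.card (MulAction.orbit S α) ≠ 1 := by
      intro h
      rw [Nat.card_eq_one_iff_unique] at h
      obtain ⟨h, -⟩ := h
      have h3 : (⟨(s : Equiv.Perm Ω) α, ⟨⟨s, mem_zpowers _⟩, rfl⟩⟩ : MulAction.orbit S α) =
        ⟨α, MulAction.mem_orbit_self α⟩ := Subsingleton.elim _ _
      exact hα (congrArg Subtype.val h3)
    have h3 := ((Nat.dvd_prime hp).1 h1).resolve_left h2
    have h4 : MulAction.orbit S α = Set.univ := by
      apply Set.eq_of_subset_of_ncard_le (Set.subset_univ _)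
      rw [Set.ncard_univ, hΩ, ← Nat.card_coe_set_eq, h3]
    intro β
    have h5 : β ∈ MulAction.orbit S α := by rw [h4]; trivial
    obtain ⟨⟨g, hg⟩, h⟩ := h5
    exact ⟨g, hg, h⟩
  have hcomm : ∀ x ∈ S, ∀ y ∈ S, x * y = y * x := by
    intro x hx y hy
    obtain ⟨i, rfl⟩ := mem_zpowers_iff.1 hx
    obtain ⟨j, rfl⟩ := mem_zpowers_iff.1 hy
    rw [← zpow_add, ← zpow_add, add_comm]
  have hC : centralizer (S : Set (Equiv.Perm Ω)) ≤ S := by
    intro c hc
    rw [mem_centralizer_iff] at hc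
    obtain ⟨g, hg, hgα⟩ := htr (c α)
    have : c = g := by
      ext β
      obtain ⟨t, ht, rfl⟩ := htr β
      have h1 : t (c α) = c (t α) := DFunLike.congr_fun (hc t ht) α
      have h2 : g (t α) = t (g α) := DFunLike.congr_fun (hcomm g hg t ht) α
      rw [← h1, h2, hgα]
    rw [this]; exact hg
  obtain ⟨m, hm1, hm2⟩ := sylow_count hp S A hScard hSA ha hsqa
  obtain ⟨n, hn1, hn2⟩ := sylow_count hp S B hScard (hSA.trans hAB) hb hsq
  refine ⟨a, b, m, n, ha, hb, hm2, hn2, ?_, ?_⟩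
  · have h1 : p * m ∣ p * n := by
      rw [← hm1, ← hn1]
      exact card_dvd_of_le (inf_le_inf_left _ hAB)
    exact Nat.dvd_of_mul_dvd_mul_left hp.pos h1
  · have h1 : p * n ∣ p * (p - 1) := by
      rw [← hn1]
      exact (card_dvd_of_le inf_le_left).trans (card_norm hp S hScard hC)
    exact Nat.dvd_of_mul_dvd_mul_left hp.pos h1

end Cfsg.Agent.H270.Tits
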