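import Cfsg.Agent.H873.Tits.Stmts
import Cfsg.Agent.H270.Tits.PrimeSyl
import Cfsg.Agent.Omega.TwoF.Rk
import Cfsg.Agent.S0242
import Cfsg.Agent.S0243
import Cfsg.Agent.S0249
import Cfsg.Agent.S0265
import Cfsg.Agent.S0813

/-!
# S3414 [E2]: groups of degree 127 with socle `PSL_7(2)`
-/

set_option autoImplicit false

namespace Cfsg.Agent.H270.Tits

open Subgroup Cfsg.Agent.H873.Tits

universe u v

theorem card_psl72 {F : Type} [Field F] [Fintype F] (hF : Fintype.card F = 2) :
    Nat.card (Matrix.ProjectiveSpecialLinearGroup (Fin 7) F) = 127 * (2 ^ 21 * 63 * 9765) := by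
  have h := S0243.result hF 7 (by norm_num)
  simp only [Fin.prod_univ_succ] at h
  norm_num at h
  rw [h]
  norm_num

theorem card_aut72 {F : Type} [Field F] [Fintype F] (hF : Fintype.card F = 2) :
    Nat.card (MulAut (Matrix.ProjectiveSpecialLinearGroup (Fin 7) F)) = 2 * (127 * (2 ^ 21 * 63 * 9765)) := by
  have : Fact (Nat.Prime 2) := ⟨Nat.prime_two⟩
  have h1 := S0242.result hF 7 (by norm_num)
  rw [S0813.result 2 1 le_rfl (by rw [hF, pow_one]) 7 (by omega) (fun h => by omega), S0265.result 7, if_neg (by omega)]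
  simp only [Fin.prod_univ_succ] at h1
  norm_num at h1
  rw [h1]
  norm_num

/-- the order of a group of type `PSL_7(2)` -/
theorem card_L {Ω : Type v} [Finite Ω] (L : Subgroup (Equiv.Perm Ω)) (h : PSLType L 2 7 1) :
    Nat.card Ω = 127 ∧ ∃ c, (c = 1 ∨ c = 2) ∧ Nat.card L = 127 * (c * (2 ^ 21 * 63 * 9765)) := by
  obtain ⟨-, -, -, hc, X, hXL, hXn, hmin, F, _, _, hF, ⟨e⟩⟩ := h
  refine ⟨by norm_num at hc; omega, ?_⟩
  rw [pow_one] at hF
  have hN := hXn
  have e' : ↥(X.subgroupOf L) ≃* Matrix.ProjectiveSpecialLinearGroup (Fin 7) F := (subgroupOfEquivOfLe hXL).trans e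
  have hcard : Nat.card (X.subgroupOf L) = 127 * (2 ^ 21 * 63 * 9765) := by
    rw [Nat.card_congr e'.toEquiv, card_psl72 hF]
  have hcent : centralizer ((X.subgroupOf L : Subgroup L) : Set L) = ⊥ := by
    by_contra hne
    have h1 := hmin ((centralizer ((X.subgroupOf L : Subgroup L) : Set L)).map L.subtype) (map_subtype_le _) (by
      rw [← comap_subtype, comap_map_eq_self_of_injective (subtype_injective L)]
      infer_instance) (fun h => hne ((map_eq_bot_iff_of_injective _ (subtype_injective L)).1 h))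
    have hcomm : IsMulCommutative (X.subgroupOf L) := by
      refine ⟨⟨fun a b => Subtype.ext ?_⟩⟩
      obtain ⟨c, hc1, hc2⟩ := h1 (mem_subgroupOf.1 a.2)
      have hca : c = a.1 := subtype_injective L hc2
      have := mem_centralizer_iff.1 hc1 b.1 b.2
      rw [hca] at this
      exact this.symm
    have hs : IsSimpleGroup (Matrix.ProjectiveSpecialLinearGroup (Fin 7) F) := S0249.result 7 (by norm_num)
    have hcomm' : ∀ a b : Matrix.ProjectiveSpecialLinearGroup (Fin 7) F, a * b = b * a := by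
      intro a b
      apply e'.symm.injective
      rw [map_mul, map_mul]
      exact hcomm.is_comm.comm _ _
    let _ : CommGroup (Matrix.ProjectiveSpecialLinearGroup (Fin 7) F) := { (inferInstance : Group _) with mul_comm := hcomm' }
    have hp := IsSimpleGroup.prime_card (α := Matrix.ProjectiveSpecialLinearGroup (Fin 7) F)
    have hp' : (Nat.card (Matrix.ProjectiveSpecialLinearGroup (Fin 7) F)).Prime := hp
    rw [card_psl72 hF] at hp'
    norm_num at hp'
  have h2 := Cfsg.Agent.Omega.TwoF.Rk.card_dvd (X.subgroupOf L) e' hcent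
  rw [card_aut72 hF] at h2
  have h3 := card_subgroup_dvd_card (X.subgroupOf L)
  rw [hcard] at h3
  obtain ⟨c, hc⟩ := h3
  rw [hc] at h2
  have h4 : c ∣ 2 := by
    have : 127 * (2 ^ 21 * 63 * 9765) * c ∣ 127 * (2 ^ 21 * 63 * 9765) * 2 := by
      rw [mul_comm _ 2]; exact h2
    exact Nat.dvd_of_mul_dvd_mul_left (by norm_num) this
  refine ⟨c, (Nat.dvd_prime Nat.prime_two).1 h4, ?_⟩
  rw [hc]; ring

/-- the order of a 2-transitive group -/
theorem card_twoTr {Ω : Type v} [Finite Ω] {L : Subgroup (Equiv.Perm Ω)} (h : TwoTr L) {n : ℕ} (hn : 1 ≤ n) (hΩ : Nat.card Ω = n + 1) :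
    (n + 1) * n ∣ Nat.card L := by
  classical
  have hnt : Nontrivial Ω := Finite.one_lt_card_iff_nontrivial.1 (by omega)
  obtain ⟨α, β, hαβ⟩ := exists_pair_ne Ω
  have htr : MulAction.IsPretransitive L Ω := by
    refine ⟨fun x y => ?_⟩
    obtain ⟨x', hx'⟩ := exists_ne x
    obtain ⟨y', hy'⟩ := exists_ne y
    obtain ⟨g, hg, h1, -⟩ := h x x' y y' hx'.symm hy'.symm
    exact ⟨⟨g, hg⟩, h1⟩
  have h1 := (MulAction.stabilizer L α).card_mul_index
  rw [MulAction.index_stabilizer_of_transitive, hΩ] at h1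
  have h2 : n ∣ Nat.card (MulAction.stabilizer L α) := by
    have h3 : MulAction.orbit (MulAction.stabilizer L α) β = {x | x ≠ α} := by
      ext x
      constructor
      · rintro ⟨⟨g, hg⟩, rfl⟩
        intro h4
        have h5 : g • β = g • α := by rw [MulAction.mem_stabilizer_iff.1 hg]; exact h4
        exact hαβ (smul_left_cancel g h5).symm
      · intro hx
        obtain ⟨g, hg, h4, h5⟩ := h α β α x hαβ (Ne.symm hx)
        exact ⟨⟨⟨g, hg⟩, h4⟩, h5⟩
    have h4 := (MulAction.stabilizer (MulAction.stabilizer L α) β).index_dvd_card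
    rw [MulAction.index_stabilizer, h3] at h4
    have h5 : ({x | x ≠ α} : Set Ω).ncard = n := by
      have h6 : ({x | x ≠ α} : Set Ω) = {α}ᶜ := by ext x; simp
      rw [h6, Set.ncard_compl, Set.ncard_singleton, hΩ]
      omega
    rwa [h5] at h4
  rw [← h1, mul_comm (n + 1) n]
  exact Nat.mul_dvd_mul_right h2 _

theorem pretrans {Ω : Type v} {L : Subgroup (Equiv.Perm Ω)} (h : TwoTr L) [Nontrivial Ω] : MulAction.IsPretransitive L Ω := by
  refine ⟨fun x y => ?_⟩
  obtain ⟨x', hx'⟩ := exists_ne x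
  obtain ⟨y', hy'⟩ := exists_ne y
  obtain ⟨g, hg, h1, -⟩ := h x x' y y' hx'.symm hy'.symm
  exact ⟨⟨g, hg⟩, h1⟩

/-- arithmetic -/
theorem num127 {e m : ℕ} (he : e ∣ 2 ^ 22 * 155) (hm : m ∣ 14) (h : 63 * e ≡ m [MOD 127]) : False := by
  obtain ⟨e1, e2, h1, h2, rfl⟩ := Nat.dvd_mul.1 he
  obtain ⟨k, hk, rfl⟩ := (Nat.dvd_prime_pow Nat.prime_two).1 h1
  have hm' : m ∈ Nat.divisors 14 := Nat.mem_divisors.2 ⟨hm, by norm_num⟩
  have h2' : e2 ∈ Nat.divisors 155 := Nat.mem_divisors.2 ⟨h2, by norm_num⟩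
  have d1 : Nat.divisors 14 = {1, 2, 7, 14} := by decide
  have d2 : Nat.divisors 155 = {1, 5, 31, 155} := by decide
  rw [d1] at hm'
  rw [d2] at h2'
  simp only [Finset.mem_insert, Finset.mem_singleton] at hm' h2'
  have key : ∀ k ≤ 22, ∀ m' ∈ [1, 2, 7, 14], ∀ e' ∈ [1, 5, 31, 155], ¬ (63 * (2 ^ k * e')) % 127 = m' % 127 := by
    decide
  refine key k hk m ?_ e2 ?_ h
  · rcases hm' with rfl | rfl | rfl | rfl <;> simp
  · rcases h2' with rfl | rfl | rfl | rfl <;> simp

/-- no 2-transitive subgroup of index divisible by 63 -/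
theorem no_idx {Ω : Type v} [Finite Ω] (L L' : Subgroup (Equiv.Perm Ω)) (h : PSLType L 2 7 1) (hL : L' ≤ L) (h2 : TwoTr L')
    (h3 : 2 ≤ (L'.relIndex L).factorization 3) (h7 : 1 ≤ (L'.relIndex L).factorization 7) : False := by
  obtain ⟨hΩ, c, hc, hcard⟩ := card_L L h
  have hnt : Nontrivial Ω := Finite.one_lt_card_iff_nontrivial.1 (by omega)
  have hp : Nat.Prime 127 := by norm_num
  obtain ⟨a, b, m, n, ha, hb, ham, hbn, hmn, hn⟩ := prime_degree hp hΩ L' L hL (pretrans h2)
  have hb' : b = c * (2 ^ 21 * 63 * 9765) := Nat.eq_of_mul_eq_mul_left (by norm_num) (hb.symm.trans hcard)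
  have hn' : n ≤ 126 := Nat.le_of_dvd (by norm_num) hn
  have hn14 : n ∣ 14 := by
    have h1 : b % 127 = n % 127 := hbn
    rw [Nat.mod_eq_of_lt (a := n) (by omega), hb'] at h1
    rcases hc with rfl | rfl
    · have : n = 7 := by rw [← h1]; norm_num
      rw [this]; norm_num
    · have : n = 14 := by rw [← h1]; norm_num
      rw [this]
  -- index
  have h63 : 63 ∣ L'.relIndex L := by
    have h0 : L'.relIndex L ≠ 0 := by
      intro h0
      rw [h0] at h3
      simp at h3
    have h9 : 3 ^ 2 ∣ L'.relIndex L := (Nat.prime_three.pow_dvd_iff_le_factorization h0).2 h3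
    have h7' : 7 ^ 1 ∣ L'.relIndex L := ((by norm_num : Nat.Prime 7).pow_dvd_iff_le_factorization h0).2 h7
    exact Nat.Coprime.mul_dvd_of_dvd_of_dvd (by norm_num) h9 h7'
  have hmul := (L'.subgroupOf L).card_mul_index
  rw [card_subgroupOf', inf_of_le_left hL] at hmul
  have hmul' : Nat.card L' * L'.relIndex L = Nat.card L := hmul
  rw [ha, hb, mul_assoc] at hmul'
  have hab := Nat.eq_of_mul_eq_mul_left (by norm_num) hmul'
  obtain ⟨i, hi⟩ := h63
  have h126 : 126 ∣ a := by
    have := card_twoTr h2 (n := 126) (by norm_num) hΩ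
    rw [ha] at this
    exact Nat.dvd_of_mul_dvd_mul_left (by norm_num) this
  obtain ⟨a', ha'⟩ := h126
  refine num127 (e := 2 * a') (m := m) ?_ (hmn.trans hn14) ?_
  · have h1 : 63 * (63 * (2 * a' * i)) = 63 * (63 * (c * 2 ^ 21 * 155)) := by
      rw [hi, ha', hb'] at hab
      calc 63 * (63 * (2 * a' * i)) = 126 * a' * (63 * i) := by ring
        _ = c * (2 ^ 21 * 63 * 9765) := hab
        _ = 63 * (63 * (c * 2 ^ 21 * 155)) := by ring
    have h2 : 2 * a' * i = c * 2 ^ 21 * 155 :=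
      Nat.eq_of_mul_eq_mul_left (by norm_num) (Nat.eq_of_mul_eq_mul_left (by norm_num) h1)
    have h3 : 2 * a' ∣ c * 2 ^ 21 * 155 := Dvd.intro _ h2
    refine h3.trans ?_
    rcases hc with rfl | rfl
    · exact ⟨2, by norm_num⟩
    · exact ⟨1, by norm_num⟩
  · have : 63 * (2 * a') = a := by rw [ha']; ring
    rw [this]
    exact ham

end Cfsg.Agent.H270.Tits
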