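import Cfsg.Agent.H270.Tits.OrdA
import Cfsg.Agent.H384.TwoTransMain
import Cfsg.Agent.S0000

/-!
# S3414 [E2]: groups of degree 129
-/

set_option autoImplicit false

namespace Cfsg.Agent.H270.Tits

open Subgroup Cfsg.Agent.H873.Tits Cfsg.Agent.H384.TwoTrans

universe u v

theorem pow_ne {q d : ℕ} (hq : 2 ≤ q) (hd : 2 ≤ d) (h : 129 * (q - 1) = q ^ d - 1) : q = 128 ∧ d = 2 := by
  have hpos : 1 ≤ q ^ d := Nat.one_le_pow _ _ (by omega)
  have h1 : q ^ d + 128 = 129 * q := by omega
  have h2 : q ∣ 128 := by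
    have h3 : q ∣ q ^ d := dvd_pow_self q (by omega)
    have h4 : q ∣ q ^ d + 128 := h1 ▸ Dvd.intro_left _ rfl
    exact (Nat.dvd_add_right h3).1 h4
  have h3 : q ≤ 128 := Nat.le_of_dvd (by norm_num) h2
  have h4 : d < 15 := by
    by_contra hcon
    push Not at hcon
    have h5 : 2 ^ 15 ≤ q ^ d := (Nat.pow_le_pow_right (by norm_num) hcon).trans (Nat.pow_le_pow_left hq d)
    have : (2:ℕ) ^ 15 = 32768 := by norm_num
    omega
  have h5 : q ∈ Nat.divisors 128 := Nat.mem_divisors.2 ⟨h2, by norm_num⟩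
  have d1 : Nat.divisors 128 = {1, 2, 4, 8, 16, 32, 64, 128} := by decide +kernel
  rw [d1] at h5
  simp only [Finset.mem_insert, Finset.mem_singleton] at h5
  have key : ∀ q ∈ [2, 4, 8, 16, 32, 64, 128], ∀ d < 15, 2 ≤ d → q ^ d + 128 = 129 * q → q = 128 ∧ d = 2 := by
    decide +kernel
  refine key q ?_ d h4 hd h1
  rcases h5 with rfl | rfl | rfl | rfl | rfl | rfl | rfl | rfl
  · omega
  all_goals simp

theorem known129 {T : Type u} [Group T] {n : ℕ} (h : Known2 T n) (hn : n = 129) :
    Nonempty (T ≃* ↥(alternatingGroup (Fin 129))) ∨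
      ∃ (F : Type) (_ : Field F) (_ : Fintype F), Fintype.card F = 2 ^ 7 ∧
        Nonempty (T ≃* Matrix.ProjectiveSpecialLinearGroup (Fin 2) F) := by
  cases h with
  | alt n h5 e => subst hn; exact Or.inl e
  | psl F d n hd hd2 e h1 =>
    subst hn
    obtain ⟨h2, rfl⟩ := pow_ne Fintype.one_lt_card hd h1
    exact Or.inr ⟨F, _, _, by rw [h2]; norm_num, e⟩
  | sp F m n hF hm e h1 =>
    exfalso
    subst hn
    have h2 : 2 ∣ 2 ^ (m - 1) := dvd_pow_self 2 (by omega)
    have h3 : 2 ∣ 129 := by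
      rcases h1 with h1 | h1 <;> rw [h1] <;> exact h2.mul_right _
    omega
  | psu F q n hq hF e h1 =>
    exfalso
    subst hn
    have h2 : q ^ 3 = 128 := by omega
    have h3 : q < 6 := by
      by_contra hcon
      push Not at hcon
      have := Nat.pow_le_pow_left hcon 3
      omega
    interval_cases q <;> omega
  | sz F m n hm hF e h1 =>
    exfalso
    subst hn
    have h2 : Fintype.card F ^ 2 = 128 := by omega
    generalize Fintype.card F = q at h2
    have h3 : q < 12 := by
      by_contra hcon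
      push Not at hcon
      have := Nat.pow_le_pow_left hcon 2
      omega
    interval_cases q <;> omega
  | ree K m n hm hK e h1 =>
    exfalso
    subst hn
    have h2 : Fintype.card K ^ 3 = 128 := by omega
    generalize Fintype.card K = q at h2
    have h3 : q < 6 := by
      by_contra hcon
      push Not at hcon
      have := Nat.pow_le_pow_left hcon 3
      omega
    interval_cases q <;> omega
  | _ => omega

theorem twoTr_iff {Ω : Type v} {L : Subgroup (Equiv.Perm Ω)} (h : TwoTr L) : MulAction.IsMultiplyPretransitive L Ω 2 := by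
  rw [MulAction.is_two_pretransitive_iff]
  intro a b c d hab hcd
  obtain ⟨g, hg, h1, h2⟩ := h a b c d hab hcd
  exact ⟨⟨g, hg⟩, h1, h2⟩

theorem card_sl128 {F : Type} [Field F] [Fintype F] (hF : Fintype.card F = 2 ^ 7) :
    Nat.card (MulAut (Matrix.ProjectiveSpecialLinearGroup (Fin 2) F)) = 7 * (128 * 127 * 129) := by
  have : Fact (Nat.Prime 2) := ⟨Nat.prime_two⟩
  have h1 := S0242.result hF 2 (by norm_num)
  rw [S0813.result 2 7 (by norm_num) hF 2 le_rfl (fun h => by norm_num), S0265.result 2, if_pos rfl, one_mul]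
  simp only [Fin.prod_univ_succ] at h1
  norm_num at h1
  omega

/-- 2-transitive groups of degree 129 -/
theorem deg129 {Ω : Type v} [Finite Ω] {L : Subgroup (Equiv.Perm Ω)} (h : TwoTr L) (hΩ : Nat.card Ω = 129) :
    Nat.card L ∣ 7 * (128 * 127 * 129) ∨ Nat.factorial 129 ∣ 2 * Nat.card L := by
  rcases reduction (twoTr_iff h) (by omega) with ⟨N, hN, hN1, hNc, ⟨p, hp, hNp⟩, htr, hst⟩ | ⟨T, A⟩
  · exfalso
    have : Fact p.Prime := ⟨hp⟩
    have hpg : IsPGroup p N := by
      intro x
      exact ⟨1, by rw [pow_one]; exact Subtype.ext (hNp x x.2)⟩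
    obtain ⟨k, hk⟩ := IsPGroup.iff_card.1 hpg
    have hne : Nonempty Ω := by
      rw [← Finite.card_pos_iff]; omega
    obtain ⟨a⟩ := hne
    have hcard : Nat.card N = 129 := by
      rw [← hΩ]
      refine Nat.card_congr (Equiv.ofBijective (fun n : N => (n : L) • a) ⟨?_, ?_⟩)
      · intro x y hxy
        have h1 : ((x : L)⁻¹ * (y : L)) • a = a := by
          rw [mul_smul]
          have h2 : (x : L) • a = (y : L) • a := hxy
          rw [← h2, inv_smul_smul]
        have h3 := hst a _ (mul_mem (inv_mem x.2) y.2) h1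
        exact Subtype.ext (inv_mul_eq_one.1 h3)
      · intro b
        obtain ⟨n, hn, h1⟩ := htr a b
        exact ⟨⟨n, hn⟩, h1⟩
    rw [hcard] at hk
    have h3 : 3 ∣ p ^ k := hk ▸ (by norm_num)
    have h43 : 43 ∣ p ^ k := hk ▸ (by norm_num)
    have e1 := (Nat.prime_dvd_prime_iff_eq Nat.prime_three hp).1 (Nat.prime_three.dvd_of_dvd_pow h3)
    have e2 := (Nat.prime_dvd_prime_iff_eq (by norm_num : Nat.Prime 43) hp).1
      ((by norm_num : Nat.Prime 43).dvd_of_dvd_pow h43)
    omega
  · have hK := Cfsg.Agent.H384.TwoTransMain.main (fun X _ _ _ => Cfsg.Agent.S0000.result) A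
    have := A.normal
    rcases known129 hK hΩ with ⟨⟨e⟩⟩ | ⟨F, _, _, hF, ⟨e⟩⟩
    · right
      have h1 := card_subgroup_dvd_card T
      rw [Nat.card_congr e.toEquiv] at h1
      have h2 : 2 * Nat.card (alternatingGroup (Fin 129)) = Nat.factorial 129 := by
        have := two_mul_nat_card_alternatingGroup (α := Fin 129)
        rw [this, Nat.card_perm, Nat.card_fin]
      rw [← h2]
      exact Nat.mul_dvd_mul_left 2 h1
    · left
      have h1 := Cfsg.Agent.Omega.TwoF.Rk.card_dvd T e A.cent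
      rwa [card_sl128 hF] at h1

theorem fact_big : 2 * (7 * (128 * 127 * 129)) * (128 * 126 ^ 2) < Nat.factorial 129 := by
  decide +kernel

/-- the contradiction in degree 129 -/
theorem no_idx129 {Ω : Type v} [Finite Ω] {L L' : Subgroup (Equiv.Perm Ω)} (h : TwoTr L) (hL : L' ≤ L) (h' : TwoTr L')
    (hΩ : Nat.card Ω = 129) (h3 : 2 ≤ (L'.relIndex L).factorization 3) (hb : L'.relIndex L ≤ 128 * 126 ^ 2) : False := by
  have hmul := (L'.subgroupOf L).card_mul_index
  rw [card_subgroupOf', inf_of_le_left hL] at hmul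
  have hmul' : Nat.card L' * L'.relIndex L = Nat.card L := hmul
  have h0 : L'.relIndex L ≠ 0 := by
    intro h0
    rw [h0] at h3
    simp at h3
  have h9 : 3 ^ 2 ∣ L'.relIndex L := (Nat.prime_three.pow_dvd_iff_le_factorization h0).2 h3
  rcases deg129 h hΩ with h1 | h1
  · have h2 : 3 ^ 2 ∣ 7 * (128 * 127 * 129) := (h9.trans (Dvd.intro_left _ hmul')).trans h1
    norm_num at h2
  · rcases deg129 h' hΩ with h2 | h2
    · have h4 := Nat.le_of_dvd (by norm_num) h2
      have h5 := Nat.le_of_dvd (Nat.mul_pos two_pos Nat.card_pos) h1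
      have h6 := fact_big
      have h7 : Nat.card L ≤ 7 * (128 * 127 * 129) * (128 * 126 ^ 2) := by
        rw [← hmul']
        exact Nat.mul_le_mul h4 hb
      have h8 : 2 * Nat.card L ≤ 2 * (7 * (128 * 127 * 129)) * (128 * 126 ^ 2) := by
        rw [mul_assoc]
        exact Nat.mul_le_mul_left 2 h7
      exact absurd (h5.trans h8) (Nat.not_le.2 h6)
    · have h4 := Nat.le_of_dvd (Nat.mul_pos two_pos Nat.card_pos) h2
      have h5 : Nat.card L ≤ Nat.factorial 129 := by
        have := Nat.le_of_dvd Nat.card_pos (card_subgroup_dvd_card L)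
        rwa [Nat.card_perm, hΩ] at this
      have h6 : 9 ≤ L'.relIndex L := Nat.le_of_dvd (Nat.pos_of_ne_zero h0) h9
      have h7 : Nat.card L' * 9 ≤ Nat.card L := by
        rw [← hmul']
        exact Nat.mul_le_mul_left _ h6
      have h8 : 0 < Nat.card L' := Nat.card_pos
      omega

end Cfsg.Agent.H270.Tits
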