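import Cfsg.Agent.H270.Tits.OrdB

/-!
# S3414: 2-transitive subgroups containing the socle (helper270)

* `soc_le_of` : `L' ≤ L` with socles of the same order, and `|L| < |T| ^ 2`: `T ≤ L'`;
* `kill_of` : then there is `1 ≠ σ ∈ T` fixing two points as soon as `n (n - 1) < |T|`;
* `PrimeAff.card` : the affine 2-transitive groups of prime degree `p` have order `p (p - 1)`.
-/

set_option autoImplicit false

namespace Cfsg.Agent.H270.Tits

open Subgroup Cfsg.Agent.H873.Tits Cfsg.Agent.H384.TwoTrans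

universe u v

variable {Ω : Type v} [Finite Ω]

omit [Finite Ω] in
theorem normal_map {L : Subgroup (Equiv.Perm Ω)} {T : Subgroup L} [T.Normal] : ((T.map L.subtype).subgroupOf L).Normal := by
  rw [← comap_subtype, comap_map_eq_self_of_injective (subtype_injective L)]
  infer_instance

theorem soc_le_of {L L' : Subgroup (Equiv.Perm Ω)} {T : Subgroup L} (A : AS L Ω T) (hL : L' ≤ L) {T' : Subgroup L'}
    (A' : AS L' Ω T') (hc : Nat.card T' = Nat.card T) (hlt : Nat.card L < Nat.card T * Nat.card T) :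
    T.map L.subtype ≤ L' := by
  have := A.normal
  have := A'.normal
  have hs := A'.simple
  set X := T.map L.subtype with hX
  set X' := T'.map L'.subtype with hX'
  have hXc : Nat.card X = Nat.card T := Nat.card_congr (T.equivMapOfInjective _ (subtype_injective L)).toEquiv.symm
  have hXc' : Nat.card X' = Nat.card T' := Nat.card_congr (T'.equivMapOfInjective _ (subtype_injective L')).toEquiv.symm
  have hXL : X ≤ L := map_subtype_le _
  have hXL' : X' ≤ L' := map_subtype_le _
  have hn : (X.subgroupOf L).Normal := normal_map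
  -- the intersection
  have h1 : ((X.subgroupOf L').subgroupOf T').Normal := by
    have : (X.subgroupOf L').Normal := by
      refine ⟨fun a ha g => ?_⟩
      exact hn.conj_mem ⟨a, hL a.2⟩ ha ⟨g, hL g.2⟩
    infer_instance
  rcases hs.eq_bot_or_eq_top_of_normal _ h1 with h2 | h2
  · exfalso
    have h3 : X ⊓ X' = ⊥ := by
      rw [eq_bot_iff]
      rintro a ⟨ha, ha'⟩
      obtain ⟨b, hb, rfl⟩ := ha'
      have h4 : (⟨b, hb⟩ : T') ∈ (X.subgroupOf L').subgroupOf T' := ha
      rw [h2, mem_bot] at h4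
      rw [mem_bot]
      have h5 : b = 1 := congrArg Subtype.val h4
      rw [h5]
      rfl
    have h4 : Nat.card (X.subgroupOf L) * Nat.card (X'.subgroupOf L) ≤ Nat.card L := by
      have h5 : Function.Injective (fun z : (X.subgroupOf L) × (X'.subgroupOf L) => (z.1 : L) * (z.2 : L)) := by
        rintro ⟨⟨a, ha⟩, ⟨b, hb⟩⟩ ⟨⟨c, hc⟩, ⟨d, hd⟩⟩ h
        have h6 : a * b = c * d := h
        have h7 : c⁻¹ * a = d * b⁻¹ := by
          rw [inv_mul_eq_iff_eq_mul, ← mul_assoc, ← h6, mul_inv_cancel_right]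
        have h8 : ((c⁻¹ * a : L) : Equiv.Perm Ω) ∈ X ⊓ X' := by
          refine ⟨?_, ?_⟩
          · exact mem_subgroupOf.1 (mul_mem (inv_mem hc) ha)
          · rw [h7]
            exact mem_subgroupOf.1 (mul_mem hd (inv_mem hb))
        rw [h3, mem_bot] at h8
        have h9 : c⁻¹ * a = 1 := Subtype.ext h8
        have h10 : c = a := (inv_mul_eq_one.1 h9)
        have h11 : d * b⁻¹ = 1 := h7.symm.trans h9
        have h12 : d = b := mul_inv_eq_one.1 h11
        subst h10 h12
        rfl
      rw [← Nat.card_prod]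
      exact Nat.card_le_card_of_injective _ h5
    rw [card_subgroupOf', card_subgroupOf', inf_of_le_left hXL, inf_of_le_left (hXL'.trans hL), hXc, hXc', hc] at h4
    omega
  · have h3 : X' ≤ X := by
      rintro _ ⟨b, hb, rfl⟩
      have h4 : (⟨b, hb⟩ : T') ∈ (X.subgroupOf L').subgroupOf T' := by rw [h2]; trivial
      exact h4
    have h4 : X' = X := eq_of_le_of_card_ge h3 (by rw [hXc, hXc', hc])
    rw [← h4]
    exact hXL'

/-- the conclusion used by the kill lemma -/
def KillRow (L L' : Subgroup (Equiv.Perm Ω)) : Prop :=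
  ∃ X : Subgroup (Equiv.Perm Ω), X ≤ L' ∧ (X.subgroupOf L).Normal ∧ ∃ x z : Ω, x ≠ z ∧
    ∃ σ ∈ X, σ x = x ∧ σ z = z ∧ σ ≠ 1

theorem kill_of {L L' : Subgroup (Equiv.Perm Ω)} {T : Subgroup L} (A : AS L Ω T) (h : T.map L.subtype ≤ L')
    (hbig : Nat.card Ω * Nat.card Ω < Nat.card T) : KillRow L L' := by
  have := A.normal
  have := A.nontrivialΩ
  obtain ⟨x, z, hxz⟩ := exists_pair_ne Ω
  refine ⟨T.map L.subtype, h, normal_map, x, z, hxz, ?_⟩
  by_contra hcon
  push Not at hcon
  have h1 : Nat.card T ≤ Nat.card (Ω × Ω) := by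
    refine Nat.card_le_card_of_injective (fun t : T => ((t : L) • x, (t : L) • z)) ?_
    intro a b hab
    have h2 : (a : L) • x = (b : L) • x := congrArg Prod.fst hab
    have h3 : (a : L) • z = (b : L) • z := congrArg Prod.snd hab
    have h4 := hcon (((b⁻¹ * a : T) : L) : Equiv.Perm Ω) ⟨_, (b⁻¹ * a).2, rfl⟩ (by
      change (((b : L)⁻¹ * (a : L) : L)) • x = x
      rw [mul_smul, h2, inv_smul_smul]) (by
      change (((b : L)⁻¹ * (a : L) : L)) • z = z
      rw [mul_smul, h3, inv_smul_smul])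
    have h5 : b⁻¹ * a = 1 := Subtype.ext (Subtype.ext h4)
    exact (inv_mul_eq_one.1 h5).symm
  rw [Nat.card_prod] at h1
  omega

/-- affine groups of prime degree -/
theorem prime_aff {p : ℕ} (hp : p.Prime) (hΩ : Nat.card Ω = p) {L' : Subgroup (Equiv.Perm Ω)} (h2 : TwoTr L')
    (N : Subgroup L') (hN : N.Normal) (hNc : IsMulCommutative N) (htr : ∀ x y : Ω, ∃ n ∈ N, n • x = y)
    (hst : ∀ x : Ω, ∀ n ∈ N, n • x = x → n = 1) : Nat.card L' = p * (p - 1) := by
  have hne : Nonempty Ω := by
    rw [← Finite.card_pos_iff, hΩ]; exact hp.pos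
  obtain ⟨a⟩ := hne
  have hcard : Nat.card N = p := by
    rw [← hΩ]
    refine Nat.card_congr (Equiv.ofBijective (fun n : N => (n : L') • a) ⟨?_, ?_⟩)
    · intro x y hxy
      have h1 : ((x : L')⁻¹ * (y : L')) • a = a := by
        rw [mul_smul]
        have h2 : (x : L') • a = (y : L') • a := hxy
        rw [← h2, inv_smul_smul]
      have h3 := hst a _ (mul_mem (inv_mem x.2) y.2) h1
      exact Subtype.ext (inv_mul_eq_one.1 h3)
    · intro b
      obtain ⟨n, hn, h1⟩ := htr a b
      exact ⟨⟨n, hn⟩, h1⟩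
  have hcent : centralizer (N : Set L') ≤ N := by
    intro c hc
    rw [mem_centralizer_iff] at hc
    obtain ⟨g, hg, hga⟩ := htr a (c • a)
    have h1 : c = g := by
      apply Subtype.ext
      ext b
      obtain ⟨t, ht, rfl⟩ := htr a b
      have e1 : c • t • a = t • c • a := by
        rw [smul_smul, smul_smul, ← hc t ht]
      have e2 : g • t • a = t • g • a := by
        rw [smul_smul, smul_smul]
        congr 1
        exact congrArg Subtype.val (hNc.is_comm.comm (⟨g, hg⟩ : N) ⟨t, ht⟩)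
      have e3 : c • t • a = g • t • a := by rw [e1, e2, hga]
      exact e3
    rw [h1]; exact hg
  have h3 := card_norm hp N hcard hcent
  have h4 : normalizer (N : Set L') = ⊤ := normalizer_eq_top_iff.2 hN
  rw [h4, card_top] at h3
  obtain ⟨q, hq⟩ : ∃ q, p = q + 1 := ⟨p - 1, by have := hp.pos; omega⟩
  have h5 := card_twoTr h2 (n := q) (by have := hp.two_le; omega) (by rw [hΩ, hq])
  rw [hq] at h3 ⊢
  exact Nat.dvd_antisymm h3 h5

end Cfsg.Agent.H270.Tits
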